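import Cfsg.Agent.H170.Fl.Lines

/-!
# Abelian normal subgroups act as `±1` (helper170)
-/

set_option autoImplicit false

namespace Cfsg.Agent.H170.Fl

open Module Cfsg.Agent.H167.OP Cfsg.Agent.H170.HL

variable {F : Type*} [Field F] {V : Type*} [AddCommGroup V] [Module F V] {G : Type*} [Group G]

theorem mem_norm_iff {A : Subgroup G} [hA : A.Normal] (g x : G) : x ∈ A ↔ g⁻¹ * x * g ∈ A := by
  constructor
  · intro hx
    have := hA.conj_mem x hx g⁻¹
    rwa [inv_inv] at this
  · intro hx
    have := hA.conj_mem _ hx g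
    convert this using 1
    group

theorem cj_one (E : Subgroup G) : cj 1 E = E := by
  ext x; rw [mem_cj]; simp

theorem cj_mul (g h : G) (E : Subgroup G) : cj (g * h) E = cj g (cj h E) := by
  ext x
  rw [mem_cj, mem_cj, mem_cj]
  have : (g * h)⁻¹ * x * (g * h) = h⁻¹ * (g⁻¹ * x * g) * h := by group
  rw [this]

theorem maxIn_cj {A E : Subgroup G} [hA : A.Normal] (hE : MaxIn E A) (g : G) : MaxIn (cj g E) A := by
  refine ⟨fun x hx => ?_, fun x hx hxE => ?_⟩
  · rw [mem_cj] at hx
    exact (mem_norm_iff g x).mpr (hE.1 hx)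
  · rw [mem_cj] at hxE
    have h1 := hE.2 _ ((mem_norm_iff g x).mp hx) hxE
    intro z hz
    have h2 := h1 ((mem_norm_iff g z).mp hz)
    have h3 : z ∈ cj g (E ⊔ Subgroup.zpowers (g⁻¹ * x * g)) := mem_cj.mpr h2
    rw [cj, Subgroup.map_sup, MonoidHom.map_zpowers] at h3
    have h4 : (MulAut.conj g).toMonoidHom (g⁻¹ * x * g) = x := by
      show g * (g⁻¹ * x * g) * g⁻¹ = x
      group
    rw [h4] at h3
    exact h3

theorem VE_map [Finite G] (ρ : Representation F G V) {A E : Subgroup G} [hA : A.Normal] (g : G) {u : V}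
    (hu : u ∈ VE ρ E A) : ρ g u ∈ VE ρ (cj g E) A := by
  refine ⟨fun e he => ?_, ?_⟩
  · rw [mem_cj] at he
    have h1 := hu.1 _ he
    have h2 : e * g = g * (g⁻¹ * e * g) := by group
    rw [← mul_ap, h2, mul_ap, h1]
  · rw [← avg_conj ρ A g (mem_norm_iff g), hu.2, map_zero]

/-- the index set of the blocks given by an abelian normal subgroup -/
def Ix [Finite G] (ρ : Representation F G V) (A : Subgroup G) : Type _ :=
  {E : Subgroup G // MaxIn E A ∧ VE ρ E A ≠ ⊥}

instance instFiniteIx [Finite G] (ρ : Representation F G V) (A : Subgroup G) : Finite (Ix ρ A) :=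
  inferInstanceAs (Finite {E : Subgroup G // MaxIn E A ∧ VE ρ E A ≠ ⊥})

noncomputable instance instActIx [Finite G] (ρ : Representation F G V) (A : Subgroup G) [hA : A.Normal] :
    MulAction G (Ix ρ A) where
  smul g E := ⟨cj g E.1, maxIn_cj E.2.1 g, by
    obtain ⟨v, hv, hv0⟩ := (Submodule.ne_bot_iff _).mp E.2.2
    refine (Submodule.ne_bot_iff _).mpr ⟨ρ g v, VE_map ρ g hv, fun h => hv0 ?_⟩
    rw [← inv_ap ρ g v, h, map_zero]⟩
  one_smul E := Subtype.ext (cj_one _)
  mul_smul g h E := Subtype.ext (cj_mul g h _)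

theorem coe_smul_ix [Finite G] (ρ : Representation F G V) (A : Subgroup G) [hA : A.Normal] (g : G)
    (E : Ix ρ A) : (g • E).1 = cj g E.1 := rfl

variable {ρ : Representation F G V} {R R' : Subgroup G}

theorem Hyp.card_ne [Finite G] (h : Hyp ρ R R') (A : Subgroup G) : (Nat.card A : F) ≠ 0 := by
  intro h0
  apply h.card
  obtain ⟨k, hk⟩ := Subgroup.card_subgroup_dvd_card A
  rw [hk, Nat.cast_mul, h0, zero_mul]

theorem Hyp.prime_ne [Finite G] (h : Hyp ρ R R') {r : ℕ} (hr : r ∣ Nat.card G) : (r : F) ≠ 0 := by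
  intro h0
  apply h.card
  obtain ⟨k, hk⟩ := hr
  rw [hk, Nat.cast_mul, h0, zero_mul]

/-- an operator commuting with `G` is a scalar -/
theorem Hyp.schur (h : Hyp ρ R R') (φ : Module.End F V) (hφ : ∀ g v, φ (ρ g v) = ρ g (φ v)) :
    ∃ c : F, ∀ v, φ v = c • v := by
  obtain ⟨c, hc⟩ := h.qr.scal φ fun r _ v => hφ r v
  refine ⟨c, fun v => ?_⟩
  have h1 : LinearMap.ker (φ - c • (1 : Module.End F V)) = ⊤ := by
    rcases h.irr (LinearMap.ker (φ - c • (1 : Module.End F V))) (by
      intro g m hm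
      rw [LinearMap.mem_ker] at hm ⊢
      show φ (ρ g m) - c • ρ g m = 0
      have : φ m - c • m = 0 := hm
      rw [hφ, ← map_smul, ← map_sub, this, map_zero]) with h2 | h2
    · exfalso
      have h3 : CV ρ R ≤ ⊥ := by
        rw [← h2]
        intro u hu
        show φ u - c • u = 0
        rw [hc u hu, sub_self]
      have h4 := h.qr.dim
      rw [le_bot_iff.mp h3, finrank_bot] at h4
      omega
    · exact h2
  have h2 : v ∈ LinearMap.ker (φ - c • (1 : Module.End F V)) := by rw [h1]; trivial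
  exact sub_eq_zero.mp h2

/-- central elements act as `±1` -/
theorem Hyp.of_central (h : Hyp ρ R R') {a : G} (ha : ∀ x ∈ SI ρ, x * a = a * x) :
    (∀ v, ρ a v = v) ∨ (∀ v, ρ a v = -v) := by
  have hc : ∀ g : G, g * a = a * g := by
    refine h.of_SI (P := fun g => g * a = a * g) (by simp) ?_ ?_ ha
    · intro x y hx hy
      rw [mul_assoc, hy, ← mul_assoc, hx, mul_assoc]
    · intro x hx
      rw [inv_mul_eq_iff_eq_mul, ← mul_assoc, hx, mul_inv_cancel_right]
  obtain ⟨c, hcc⟩ := h.schur (ρ a) fun g v => by rw [← mul_ap, ← mul_ap, hc g]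
  exact h.scal a ⟨c, hcc⟩

/-- **elementary abelian normal subgroups** -/
theorem Hyp.elem [Finite G] (h : Hyp ρ R R') {r : ℕ} (hr : r.Prime) {A : Subgroup G} [hA : A.Normal]
    (hab : ∀ a ∈ A, ∀ b ∈ A, a * b = b * a) (hexp : ∀ a ∈ A, a ^ r = 1) {a : G} (ha : a ∈ A) :
    (∀ v, ρ a v = v) ∨ (∀ v, ρ a v = -v) := by
  classical
  have := h.finDim
  by_cases ha1 : a = 1
  · left
    intro v
    rw [ha1, one_ap]
  have hrd : r ∣ Nat.card G := by
    have h1 : orderOf a ∣ r := orderOf_dvd_of_pow_eq_one (hexp a ha)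
    rcases (Nat.dvd_prime hr).mp h1 with h2 | h2
    · exact absurd (orderOf_eq_one_iff.mp h2) ha1
    · rw [← h2]
      exact orderOf_dvd_natCard a
  have hrF := h.prime_ne hrd
  have hcA := h.card_ne A
  have hρ : ∃ d ∈ A, ρ d ≠ 1 := ⟨a, ha, fun h0 => ha1 (h.inj (by rw [h0, map_one]))⟩
  obtain ⟨E, hE, hne, hV⟩ := exists_VE ρ hr hrF hcA hab hexp hρ
  let B : Ix ρ A → Submodule F V := fun E => VE ρ E.1 A
  let i₀ : Ix ρ A := ⟨E, hE, hV⟩
  have hind : iSupIndep B := by
    intro i
    rw [Submodule.disjoint_def]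
    intro v hv hv'
    have h1 : (⨆ j, ⨆ (_ : j ≠ i), B j) ≤ LinearMap.ker (avg ρ i.1) := by
      refine iSup₂_le fun j hj w hw => ?_
      rw [LinearMap.mem_ker]
      exact VE_avg_zero ρ hcA hab i.2.1 j.2.1 (fun h => hj (Subtype.ext h.symm)) hw
    have h2 := h1 hv'
    rw [LinearMap.mem_ker, avg_fixed ρ i.1 (h.card_ne _) hv.1] at h2
    exact h2
  have hsup : ⨆ i, B i = ⊤ := by
    rcases h.irr (⨆ i, B i) (by
      intro g m hm
      have h1 : (⨆ i, B i) ≤ (⨆ i, B i).comap (ρ g) := by
        refine iSup_le fun i v hv => ?_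
        exact (le_iSup B (g • i)) (VE_map ρ g hv)
      exact h1 hm) with h1 | h1
    · exfalso
      apply hV
      rw [eq_bot_iff, ← h1]
      exact le_iSup B i₀
    · exact h1
  have hB : Blk ρ B := ⟨fun g i v hv => VE_map ρ g hv, fun i => i.2.2, hind, hsup⟩
  have hsub : Subsingleton (Ix ρ A) := by
    by_contra hcon
    rw [not_subsingleton_iff_nontrivial] at hcon
    exact h.no_blocks hB
  have htop : VE ρ E A = ⊤ := by
    rw [eq_top_iff, ← hsup]
    refine iSup_le fun i => ?_
    rw [Subsingleton.elim i i₀]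
  have hE1 : ∀ e ∈ E, e = 1 := by
    intro e he
    apply h.inj
    rw [map_one]
    apply LinearMap.ext
    intro v
    have hv : v ∈ VE ρ E A := by rw [htop]; trivial
    exact hv.1 e he
  -- nontrivial elements of `A` have no fixed vectors
  have hfix : ∀ b ∈ A, b ≠ 1 → ∀ v, ρ b v = v → v = 0 := by
    intro b hb hb1 v hv
    have h1 : b ∉ E := fun hbE => hb1 (hE1 b hbE)
    have h2 := hE.2 b hb h1
    have h3 : ∀ d ∈ A, ρ d v = v := by
      let T : Subgroup G :=
        { carrier := {g | ρ g v = v}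
          one_mem' := one_ap ρ _
          mul_mem' := by
            intro a b ha hb
            show ρ (a * b) _ = _
            rw [mul_ap, hb, ha]
          inv_mem' := by
            intro a ha
            show ρ a⁻¹ _ = _
            have : ρ a v = v := ha
            conv_lhs => rw [← this]
            rw [inv_ap] }
      have h4 : A ≤ T := by
        refine h2.trans (sup_le ?_ ?_)
        · intro e he
          rw [hE1 e he]
          exact T.one_mem
        · rw [Subgroup.zpowers_le]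
          exact hv
      exact fun d hd => h4 hd
    have h5 : v ∈ VE ρ E A := by rw [htop]; trivial
    rw [← avg_fixed ρ A hcA h3, h5.2]
  refine h.of_central fun x hx => ?_
  by_contra hxa
  set a' := x * a * x⁻¹ with ha'
  have ha'A : a' ∈ A := hA.conj_mem a ha x
  have hne' : a⁻¹ * a' ≠ 1 := by
    intro h1
    apply hxa
    have h2 : a' = a := by
      rw [inv_mul_eq_one] at h1
      exact h1.symm
    rw [ha'] at h2
    calc x * a = x * a * x⁻¹ * x := by group
      _ = a * x := by rw [h2]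
  have hxx : x⁻¹ = x := by
    rw [inv_eq_iff_mul_eq_one]; exact hx.1
  have h1 := anti h.two ρ (x := x) (ρ a - ρ a') ?_ ?_
  · have := h.five
    have := hx.2
    omega
  · rw [injective_iff_map_eq_zero]
    intro v hv
    have h2 : ρ a v = ρ a' v := sub_eq_zero.mp hv
    apply hfix _ (A.mul_mem (A.inv_mem ha) ha'A) hne' v
    rw [mul_ap, ← h2, inv_ap]
  · intro v
    show ρ a (ρ x v) - ρ a' (ρ x v) = -(ρ x (ρ a v - ρ a' v))
    rw [map_sub, ← mul_ap, ← mul_ap, ← mul_ap, ← mul_ap]
    have h2 : a' * x = x * a := by rw [ha']; group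
    have h3 : x * a' = a * x := by
      rw [ha', hxx]
      calc x * (x * a * x) = (x * x) * (a * x) := by group
        _ = a * x := by rw [hx.1, one_mul]
    rw [h2, h3]
    abel

end Cfsg.Agent.H170.Fl
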