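import Cfsg.Agent.H170.Fl.Defs

/-!
# Basic lemmas (helper170)
-/

set_option autoImplicit false

namespace Cfsg.Agent.H170.Fl

open Module Cfsg.Agent.H167.OP Cfsg.Agent.H170.HL

/-- two transpositions of three points give an element of order divisible by 3 -/
theorem three_dvd {G ι : Type*} [Group G] [MulAction G ι] {σ τ : G} {a p b : ι}
    (hpb : p ≠ b) (h1 : σ • p = a) (h2 : σ • a = p) (h3 : σ • b = b)
    (h4 : τ • p = b) (h5 : τ • b = p) (h6 : τ • a = a) : 3 ∣ Nat.card G := by
  have g1 : (σ * τ) • p = b := by rw [mul_smul, h4, h3]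
  have g2 : (σ * τ) • b = a := by rw [mul_smul, h5, h1]
  have g3 : (σ * τ) • a = p := by rw [mul_smul, h6, h2]
  have : Fact (Nat.Prime 3) := ⟨Nat.prime_three⟩
  have hper : Function.minimalPeriod ((σ * τ) • ·) p = 3 := by
    refine Function.minimalPeriod_eq_prime ?_ ?_
    · show ((σ * τ) • ·)^[3] p = p
      simp only [Function.iterate_succ, Function.comp, Function.iterate_zero, id]
      rw [g1, g2, g3]
    · intro h
      have h' : (σ * τ) • p = p := h
      rw [g1] at h'
      exact hpb h'.symm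
  have h7 : 3 ∣ orderOf (σ * τ) := by
    rw [← hper, ← MulAction.pow_smul_eq_iff_minimalPeriod_dvd, pow_orderOf_eq_one, one_smul]
  exact h7.trans (orderOf_dvd_natCard _)

variable {F : Type*} [Field F] {V : Type*} [AddCommGroup V] [Module F V] {G : Type*} [Group G]

theorem mem_range_of_neg (h2 : (2 : F) ≠ 0) (ρ : Representation F G V) {x : G} {v : V}
    (hv : ρ x v = -v) : v ∈ LinearMap.range (ρ x - 1) := by
  refine ⟨(-(2 : F)⁻¹) • v, ?_⟩
  show ρ x ((-(2 : F)⁻¹) • v) - (-(2 : F)⁻¹) • v = v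
  rw [map_smul, hv, smul_neg, neg_smul, neg_neg, sub_neg_eq_add, ← add_smul]
  have : (2 : F)⁻¹ + (2 : F)⁻¹ = 1 := by field_simp; norm_num
  rw [this, one_smul]

/-- an injective operator anticommuting with an involution -/
theorem anti [FiniteDimensional F V] (h2 : (2 : F) ≠ 0) (ρ : Representation F G V) {x : G}
    (β : Module.End F V) (hβ : Function.Injective β)
    (h : ∀ v, β (ρ x v) = -(ρ x (β v))) : finrank F V ≤ 2 * rk ρ x := by
  have h1 := LinearMap.finrank_range_add_finrank_ker (ρ x - 1)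
  have h3 : (LinearMap.ker (ρ x - 1)).map β ≤ LinearMap.range (ρ x - 1) := by
    rintro _ ⟨v, hv, rfl⟩
    have hv' : ρ x v = v := by
      have : ρ x v - v = 0 := hv
      exact sub_eq_zero.mp this
    apply mem_range_of_neg h2
    have := h v
    rw [hv'] at this
    have h5 := congrArg Neg.neg this
    rw [neg_neg] at h5
    exact h5.symm
  have h4 := Submodule.finrank_mono h3
  rw [(Submodule.equivMapOfInjective β hβ _).finrank_eq.symm] at h4
  unfold rk
  omega

/-- the fixed space -/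
def FixS (ρ : Representation F G V) (R : Subgroup G) : Submodule F V where
  carrier := {v | ∀ r ∈ R, ρ r v = v}
  zero_mem' := fun _ _ => map_zero _
  add_mem' := fun ha hb r hr => by rw [map_add, ha r hr, hb r hr]
  smul_mem' := fun c _ ha r hr => by rw [map_smul, ha r hr]

theorem mem_FixS {ρ : Representation F G V} {R : Subgroup G} {v : V} :
    v ∈ FixS ρ R ↔ ∀ r ∈ R, ρ r v = v := Iff.rfl

theorem CV_eq_bot_of_fix {ρ : Representation F G V} {R : Subgroup G} (h : FixS ρ R = ⊤) :
    CV ρ R = ⊥ := by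
  rw [eq_bot_iff]
  refine CV_le fun d hd => ?_
  rintro _ ⟨v, rfl⟩
  have h1 : v ∈ FixS ρ R := by rw [h]; trivial
  show ρ d v - v ∈ (⊥ : Submodule F V)
  rw [h1 d hd, sub_self]
  exact Submodule.zero_mem _

/-- elements of a subspace `M` with `[M, R] = 0` -/
theorem CV_inv (ρ : Representation F G V) {R : Subgroup G} {r : G} (hr : r ∈ R) {v : V}
    (hv : v ∈ CV ρ R) : ρ r v ∈ CV ρ R := by
  have h1 : ρ r v = (ρ r v - v) + v := by abel
  rw [h1]
  exact (CV ρ R).add_mem (sub_mem_CV ρ hr v) hv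

/-- the hypotheses of the main theorem -/
structure Hyp (ρ : Representation F G V) (R R' : Subgroup G) : Prop where
  inj : Function.Injective ρ
  two : (2 : F) ≠ 0
  card : (Nat.card G : F) ≠ 0
  three : ¬ 3 ∣ Nat.card G
  irr : ∀ M : Submodule F V, (∀ g : G, ∀ m ∈ M, ρ g m ∈ M) → M = ⊥ ∨ M = ⊤
  five : 5 ≤ finrank F V
  eight : finrank F V ≤ 8
  scal : ∀ g : G, (∃ c : F, ∀ v, ρ g v = c • v) → (∀ v, ρ g v = v) ∨ (∀ v, ρ g v = -v)
  qr : QR ρ R
  qr' : QR ρ R'
  gen : R ⊔ R' = ⊤
  sup : CV ρ R ⊔ CV ρ R' = ⊤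

/-- small involutions -/
def SI (ρ : Representation F G V) : Set G := {x | x * x = 1 ∧ rk ρ x ≤ 2}

namespace Hyp

variable {ρ : Representation F G V} {R R' : Subgroup G}

theorem closure_SI (h : Hyp ρ R R') : Subgroup.closure (SI ρ) = ⊤ := by
  obtain ⟨S, hS, hS'⟩ := h.qr.gen
  obtain ⟨T, hT, hT'⟩ := h.qr'.gen
  rw [eq_top_iff, ← h.gen, ← hS, ← hT]
  exact sup_le (Subgroup.closure_mono hS') (Subgroup.closure_mono hT')

/-- elements fixed by all small involutions -/
theorem of_SI (h : Hyp ρ R R') {P : G → Prop} (h1 : P 1) (hm : ∀ a b, P a → P b → P (a * b))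
    (hi : ∀ a, P a → P a⁻¹) (hx : ∀ x ∈ SI ρ, P x) (g : G) : P g := by
  have hg : g ∈ Subgroup.closure (SI ρ) := by rw [h.closure_SI]; trivial
  induction hg using Subgroup.closure_induction with
  | mem x hx' => exact hx x hx'
  | one => exact h1
  | mul a b _ _ ha hb => exact hm a b ha hb
  | inv a _ ha => exact hi a ha

theorem finDim (h : Hyp ρ R R') : FiniteDimensional F V :=
  FiniteDimensional.of_finrank_pos (by have := h.five; omega)

theorem nontriv (h : Hyp ρ R R') : Nontrivial V :=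
  Module.nontrivial_of_finrank_pos (R := F) (by have := h.five; omega)

end Hyp

theorem SI_conj [FiniteDimensional F V] {ρ : Representation F G V} {x : G} (hx : x ∈ SI ρ) (g : G) :
    g * x * g⁻¹ ∈ SI ρ := by
  refine ⟨?_, (rk_conj_le ρ g x).trans hx.2⟩
  have : g * x * g⁻¹ * (g * x * g⁻¹) = g * (x * x) * g⁻¹ := by group
  rw [this, hx.1, mul_one, mul_inv_cancel]

end Cfsg.Agent.H170.Fl
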