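import Cfsg.Agent.H170.Fl.Base

/-!
# No blocks of imprimitivity (helper170)
-/

set_option autoImplicit false

namespace Cfsg.Agent.H170.Fl

open Module Cfsg.Agent.H167.OP Cfsg.Agent.H170.HL

variable {F : Type*} [Field F] {V : Type*} [AddCommGroup V] [Module F V] {G : Type*} [Group G]
  {ι : Type*} [MulAction G ι]

/-- a system of blocks -/
structure Blk (ρ : Representation F G V) (B : ι → Submodule F V) : Prop where
  map : ∀ (g : G) (i : ι) (v : V), v ∈ B i → ρ g v ∈ B (g • i)
  ne : ∀ i, B i ≠ ⊥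
  ind : iSupIndep B
  sup : ⨆ i, B i = ⊤

namespace Blk

variable {ρ : Representation F G V} {B : ι → Submodule F V}

theorem map_iff (hB : Blk ρ B) (g : G) (i : ι) (v : V) : ρ g v ∈ B (g • i) ↔ v ∈ B i := by
  refine ⟨fun h => ?_, hB.map g i v⟩
  have := hB.map g⁻¹ _ _ h
  rwa [inv_ap, inv_smul_smul] at this

theorem map_eq (hB : Blk ρ B) (g : G) (i : ι) : (B i).map (ρ g) = B (g • i) := by
  apply le_antisymm
  · rintro _ ⟨v, hv, rfl⟩
    exact hB.map g i v hv
  · intro w hw
    refine ⟨ρ g⁻¹ w, ?_, ap_inv ρ g w⟩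
    have := hB.map g⁻¹ _ _ hw
    rwa [inv_smul_smul] at this

theorem rho_inj (ρ : Representation F G V) (g : G) : Function.Injective (ρ g) := by
  intro a b h
  have := congrArg (ρ g⁻¹) h
  rwa [inv_ap, inv_ap] at this

theorem finrank_smul (hB : Blk ρ B) (g : G) (i : ι) : finrank F (B (g • i)) = finrank F (B i) := by
  rw [← hB.map_eq g i]
  exact ((Submodule.equivMapOfInjective (ρ g) (rho_inj ρ g) (B i)).finrank_eq).symm

theorem eq_of_mem (hB : Blk ρ B) {i j : ι} {v : V} (hi : v ∈ B i) (hj : v ∈ B j) (hv : v ≠ 0) :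
    i = j := by
  by_contra hne
  have := (hB.ind.pairwiseDisjoint hne).le_bot ⟨hi, hj⟩
  exact hv this

theorem exists_ne (hB : Blk ρ B) (i : ι) : ∃ v ∈ B i, v ≠ 0 := (Submodule.ne_bot_iff _).mp (hB.ne i)

theorem trans (hB : Blk ρ B)
    (irr : ∀ M : Submodule F V, (∀ g : G, ∀ m ∈ M, ρ g m ∈ M) → M = ⊥ ∨ M = ⊤) (i j : ι) :
    ∃ g : G, g • i = j := by
  by_contra hcon
  push Not at hcon
  have hinv : ∀ g : G, ∀ m ∈ (⨆ g : G, B (g • i)), ρ g m ∈ (⨆ g : G, B (g • i)) := by
    intro g m hm
    have h1 : (⨆ g : G, B (g • i)) ≤ (⨆ g : G, B (g • i)).comap (ρ g) := by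
      refine iSup_le fun g' v hv => ?_
      have := hB.map g _ _ hv
      rw [← mul_smul] at this
      exact (le_iSup (fun g : G => B (g • i)) (g * g')) this
    exact h1 hm
  rcases irr _ hinv with h | h
  · apply hB.ne i
    rw [eq_bot_iff, ← h]
    have := le_iSup (fun g : G => B (g • i)) 1
    simpa only [one_smul] using this
  · apply hB.ne j
    have h1 : Disjoint (B j) (⨆ k ∈ {k | ∃ g : G, g • i = k}, B k) :=
      hB.ind.disjoint_biSup (by
        rintro ⟨g, hg⟩
        exact hcon g hg)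
    have h2 : (⊤ : Submodule F V) ≤ ⨆ k ∈ {k | ∃ g : G, g • i = k}, B k := by
      rw [← h]
      refine iSup_le fun g => ?_
      exact le_biSup B (show g • i ∈ {k | ∃ g : G, g • i = k} from ⟨g, rfl⟩)
    exact Disjoint.eq_bot_of_le h1 (le_top.trans h2)

/-- an invariant set of blocks is everything -/
theorem eq_univ (hB : Blk ρ B)
    (irr : ∀ M : Submodule F V, (∀ g : G, ∀ m ∈ M, ρ g m ∈ M) → M = ⊥ ∨ M = ⊤) {O : Set ι} {i : ι}
    (hi : i ∈ O) (hO : ∀ g : G, ∀ j ∈ O, g • j ∈ O) (j : ι) : j ∈ O := by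
  obtain ⟨g, rfl⟩ := hB.trans irr i j
  exact hO g i hi

/-- a moved block has dimension at most the rank -/
theorem finrank_le [FiniteDimensional F V] (hB : Blk ρ B) {x : G} {i : ι} (hx : x • i ≠ i) :
    finrank F (B i) ≤ rk ρ x := by
  have h1 : Function.Injective ((ρ x - 1).domRestrict (B i)) := by
    rw [← LinearMap.ker_eq_bot, LinearMap.ker_eq_bot']
    rintro ⟨v, hv⟩ hv0
    have h2 : ρ x v = v := sub_eq_zero.mp hv0
    by_contra hne
    have hv1 : v ≠ 0 := fun h => hne (Subtype.ext h)
    have h3 := hB.map x i v hv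
    rw [h2] at h3
    exact hx (hB.eq_of_mem h3 hv hv1)
  have h2 : (B i).map (ρ x - 1) ≤ LinearMap.range (ρ x - 1) := LinearMap.map_le_range
  have h3 := Submodule.finrank_mono h2
  have h4 : LinearMap.range ((ρ x - 1).domRestrict (B i)) = (B i).map (ρ x - 1) := by
    rw [LinearMap.range_domRestrict]
  have h5 := LinearMap.finrank_range_of_inj h1
  rw [h4] at h5
  unfold rk
  omega

/-- two different pairs of moved blocks -/
theorem finrank_add_le [FiniteDimensional F V] (hB : Blk ρ B) {x : G} (hxx : x * x = 1) {i j : ι}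
    (hi : x • i ≠ i) (hj : x • j ≠ j) (hij : i ≠ j) (hij' : x • i ≠ j) :
    finrank F (B i) + finrank F (B j) ≤ rk ρ x := by
  have hxj : x • j ≠ i := by
    intro h
    apply hij'
    rw [← h, ← mul_smul, hxx, one_smul]
  have hne : x • i ≠ x • j := fun h => hij (MulAction.injective x h)
  have h1 : Function.Injective ((ρ x - 1).domRestrict (B i ⊔ B j)) := by
    rw [← LinearMap.ker_eq_bot, LinearMap.ker_eq_bot']
    rintro ⟨v, hv⟩ hv0
    have h2 : ρ x v = v := sub_eq_zero.mp hv0
    obtain ⟨a, ha, b, hb, rfl⟩ := Submodule.mem_sup.mp hv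
    -- `a + b = x a + x b`
    have hxa := hB.map x i a ha
    have hxb := hB.map x j b hb
    rw [map_add] at h2
    have ha0 : a = 0 := by
      have h3 : Disjoint (B i) (⨆ k ∈ ({j, x • i, x • j} : Set ι), B k) :=
        hB.ind.disjoint_biSup (by
          rintro (h | h | h)
          · exact hij h
          · exact hi h.symm
          · exact hxj h.symm)
      have hm : ∀ k ∈ ({j, x • i, x • j} : Set ι), B k ≤ ⨆ k ∈ ({j, x • i, x • j} : Set ι), B k :=
        fun k hk => le_biSup B hk
      refine Submodule.disjoint_def.mp h3 a ha ?_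
      have h4 : a = ρ x a + ρ x b - b := by rw [h2]; abel
      rw [h4]
      refine Submodule.sub_mem _ (Submodule.add_mem _ ?_ ?_) ?_
      · exact hm _ (by simp) hxa
      · exact hm _ (by simp) hxb
      · exact hm _ (by simp) hb
    have hb0 : b = 0 := by
      have h3 : Disjoint (B j) (B (x • j)) := hB.ind.pairwiseDisjoint (fun h => hj h.symm)
      refine Submodule.disjoint_def.mp h3 b hb ?_
      rw [ha0, map_zero, zero_add, zero_add] at h2
      rw [← h2]
      exact hxb
    exact Subtype.ext (by show a + b = 0; rw [ha0, hb0, add_zero])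
  have h2 : (B i ⊔ B j).map (ρ x - 1) ≤ LinearMap.range (ρ x - 1) := LinearMap.map_le_range
  have h3 := Submodule.finrank_mono h2
  have h4 : LinearMap.range ((ρ x - 1).domRestrict (B i ⊔ B j)) = (B i ⊔ B j).map (ρ x - 1) := by
    rw [LinearMap.range_domRestrict]
  have h5 := LinearMap.finrank_range_of_inj h1
  rw [h4] at h5
  have h6 := Submodule.finrank_sup_add_finrank_inf_eq (B i) (B j)
  have h7 : B i ⊓ B j = ⊥ := (hB.ind.pairwiseDisjoint hij).eq_bot
  rw [h7, finrank_bot] at h6
  unfold rk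
  omega

end Blk

variable {ρ : Representation F G V} {R R' : Subgroup G}

/-- blocks of dimension at least two -/
theorem Hyp.no_blocks_two (h : Hyp ρ R R') {B : ι → Submodule F V} (hB : Blk ρ B)
    [Nontrivial ι] (i : ι) : finrank F (B i) < 2 := by
  have := h.finDim
  by_contra hcon
  push Not at hcon
  have hdim : ∀ j, finrank F (B j) = finrank F (B i) := by
    intro j
    obtain ⟨g, rfl⟩ := hB.trans h.irr i j
    exact hB.finrank_smul g i
  -- a block is moved by a small involution
  obtain ⟨x, hx, hxi⟩ : ∃ x ∈ SI ρ, x • i ≠ i := by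
    by_contra hc
    push Not at hc
    have hfix : ∀ g : G, g • i = i := by
      refine h.of_SI (P := fun g => g • i = i) (one_smul G i) ?_ ?_ hc
      · intro a b ha hb
        rw [mul_smul, hb, ha]
      · intro a ha
        rw [inv_smul_eq_iff, ha]
    obtain ⟨j, hj⟩ := exists_ne i
    obtain ⟨g, hg⟩ := hB.trans h.irr i j
    rw [hfix g] at hg
    exact hj hg.symm
  -- a small involution moves only one pair
  have hpair : ∀ y ∈ SI ρ, ∀ j k : ι, y • j ≠ j → y • k ≠ k → j ≠ k → y • j = k := by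
    intro y hy j k hj hk hjk
    by_contra hc
    have h1 := hB.finrank_add_le hy.1 hj hk hjk hc
    have h2 := hy.2
    rw [hdim j, hdim k] at h1
    omega
  set j := x • i with hj
  have hxj : x • j = i := by rw [hj, ← mul_smul, hx.1, one_smul]
  -- some small involution moves `{i, j}`
  obtain ⟨y, hy, hyc⟩ : ∃ y ∈ SI ρ, (y • i ∉ ({i, j} : Set ι) ∨ y • j ∉ ({i, j} : Set ι)) := by
    by_contra hc
    push Not at hc
    have hij : i ≠ j := fun hc => hxi hc.symm
    have hinv' : ∀ y : G, (y • i = i ∧ y • j = j) ∨ (y • i = j ∧ y • j = i) := by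
      refine h.of_SI (P := fun y => (y • i = i ∧ y • j = j) ∨ (y • i = j ∧ y • j = i))
        (Or.inl ⟨one_smul G i, one_smul G j⟩) ?_ ?_ ?_
      · intro a b ha hb
        rcases ha with ⟨ha1, ha2⟩ | ⟨ha1, ha2⟩ <;> rcases hb with ⟨hb1, hb2⟩ | ⟨hb1, hb2⟩ <;>
          simp only [mul_smul, ha1, ha2, hb1, hb2, and_self, true_or, or_true]
      · intro a ha
        have h1 : ∀ k l : ι, a • k = l → a⁻¹ • l = k := fun k l hkl => by rw [← hkl, inv_smul_smul]
        rcases ha with ⟨ha1, ha2⟩ | ⟨ha1, ha2⟩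
        · exact Or.inl ⟨h1 _ _ ha1, h1 _ _ ha2⟩
        · exact Or.inr ⟨h1 _ _ ha2, h1 _ _ ha1⟩
      · intro y hy
        obtain ⟨h1, h2⟩ := hc y hy
        have h3 : y • i ≠ y • j := fun h => hij (MulAction.injective y h)
        simp only [Set.mem_insert_iff, Set.mem_singleton_iff] at h1 h2
        rcases h1 with h1 | h1 <;> rcases h2 with h2 | h2
        · exact absurd (h1.trans h2.symm) h3
        · exact Or.inl ⟨h1, h2⟩
        · exact Or.inr ⟨h1, h2⟩
        · exact absurd (h1.trans h2.symm) h3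
    have hinv : ∀ y : G, y • i ∈ ({i, j} : Set ι) ∧ y • j ∈ ({i, j} : Set ι) := by
      intro y
      rcases hinv' y with ⟨h1, h2⟩ | ⟨h1, h2⟩ <;> simp [h1, h2]
    have hall : ∀ k, k ∈ ({i, j} : Set ι) := fun k =>
      hB.eq_univ h.irr (O := {i, j}) (i := i) (by simp) (fun g l hl => by
        rcases hl with rfl | hl
        · exact (hinv g).1
        · rw [Set.mem_singleton_iff] at hl
          rw [hl]
          exact (hinv g).2) k
    have h1 : (⊤ : Submodule F V) ≤ B i ⊔ B j := by
      rw [← hB.sup]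
      refine iSup_le fun k => ?_
      rcases hall k with rfl | hk
      · exact le_sup_left
      · rw [Set.mem_singleton_iff] at hk
        rw [hk]
        exact le_sup_right
    have h2 := Submodule.finrank_mono h1
    rw [finrank_top] at h2
    have h3 := Submodule.finrank_add_le_finrank_add_finrank (B i) (B j)
    have h4 := hB.finrank_le hxi
    have h5 := hx.2
    have h6 := h.five
    rw [hdim j] at h3
    omega
  have hxfix : ∀ k, k ≠ i → k ≠ j → x • k = k := by
    intro k hk hk'
    by_contra hc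
    exact hk' (hpair x hx i k hxi hc (Ne.symm hk)).symm
  have hyy : ∀ k : ι, y • y • k = k := fun k => by rw [← mul_smul, hy.1, one_smul]
  have hij : i ≠ j := fun hc => hxi hc.symm
  refine h.three ?_
  rcases hyc with hyc | hyc
  · -- `y` maps `i` to `k`
    simp only [Set.mem_insert_iff, Set.mem_singleton_iff, not_or] at hyc
    refine three_dvd (σ := x) (τ := y) (p := i) (a := j) (b := y • i) (Ne.symm hyc.1) rfl hxj
      (hxfix _ hyc.1 hyc.2) rfl (hyy i) ?_
    by_contra hc
    exact hyc.2 (hpair y hy i j hyc.1 hc hij)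
  · simp only [Set.mem_insert_iff, Set.mem_singleton_iff, not_or] at hyc
    refine three_dvd (σ := x) (τ := y) (p := j) (a := i) (b := y • j) (Ne.symm hyc.2) hxj rfl
      (hxfix _ hyc.1 hyc.2) rfl (hyy j) ?_
    by_contra hc
    exact hyc.1 (hpair y hy j i hyc.2 hc (Ne.symm hij))

end Cfsg.Agent.H170.Fl
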