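import Cfsg.Agent.H170.Fl.Solv
import Cfsg.Agent.H170.HL.Forms

/-!
# Claim (B) for solvable groups (helper170)

`claimB`: `R`, `R'` of the type `QR`, `⟨R, R'⟩` solvable of order prime to 3 and to the characteristic, a
non-degenerate symmetric invariant form: `[V,R] = [V,R']` or `[V,R]` is orthogonal to `[V,R']`.
-/

set_option autoImplicit false

namespace Cfsg.Agent.H170.Fl

open Module Cfsg.Agent.H167.OP Cfsg.Agent.H170.HL

variable {F : Type*} [Field F] {V : Type*} [AddCommGroup V] [Module F V] {G : Type*} [Group G]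

section transfer

variable (ρ : Representation F G V) (J : Subgroup G)

/-- the representation of `J` on `[V, J]` -/
noncomputable def rW : Representation F J (CV ρ J) where
  toFun g := (ρ (g : G)).restrict fun _ hw => CV_inv ρ g.2 hw
  map_one' := by
    apply LinearMap.ext
    intro w
    exact Subtype.ext (one_ap ρ w)
  map_mul' g h := by
    apply LinearMap.ext
    intro w
    exact Subtype.ext (mul_ap ρ g h w)

theorem coe_rW (g : J) (w : CV ρ J) : ((rW ρ J g w : CV ρ J) : V) = ρ (g : G) w := rfl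

variable [Finite G]

theorem sub_avg_mem (hJ : (Nat.card J : F) ≠ 0) (v : V) : v - avg ρ J v ∈ CV ρ J := by
  have : Fintype J := Fintype.ofFinite J
  have h1 : v - avg ρ J v = (Nat.card J : F)⁻¹ • ∑ e : J, (v - ρ e v) := by
    rw [avg_apply, Finset.sum_sub_distrib, smul_sub, Finset.sum_const, Finset.card_univ,
      ← Nat.card_eq_fintype_card, ← Nat.cast_smul_eq_nsmul F, smul_smul, inv_mul_cancel₀ hJ, one_smul]
  rw [h1]
  refine Submodule.smul_mem _ _ (Submodule.sum_mem _ fun e _ => ?_)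
  rw [← neg_sub]
  exact Submodule.neg_mem _ (sub_mem_CV ρ e.2 v)

theorem avg_CV {w : V} (hw : w ∈ CV ρ J) : avg ρ J w = 0 := by
  have h1 : CV ρ J ≤ LinearMap.ker (avg ρ J) := by
    refine CV_le fun d hd => ?_
    rintro _ ⟨v, rfl⟩
    show avg ρ J (ρ d v - v) = 0
    rw [map_sub, avg_map ρ J hd, sub_self]
  exact h1 hw

/-- the projection to `[V, J]` -/
noncomputable def piW (hJ : (Nat.card J : F) ≠ 0) : V →ₗ[F] CV ρ J :=
  (LinearMap.id - avg ρ J).codRestrict (CV ρ J) (sub_avg_mem ρ J hJ)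

theorem coe_piW (hJ : (Nat.card J : F) ≠ 0) (v : V) : (piW ρ J hJ v : V) = v - avg ρ J v := rfl

theorem piW_of_mem (hJ : (Nat.card J : F) ≠ 0) {w : V} (hw : w ∈ CV ρ J) : piW ρ J hJ w = ⟨w, hw⟩ := by
  apply Subtype.ext
  rw [coe_piW, avg_CV ρ J hw, sub_zero]

theorem rW_inj (hρ : Function.Injective ρ) (hJ : (Nat.card J : F) ≠ 0) : Function.Injective (rW ρ J) := by
  rw [injective_iff_map_eq_one]
  intro g hg
  apply Subtype.ext
  apply hρ
  show ρ (g : G) = ρ 1
  rw [map_one]
  apply LinearMap.ext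
  intro v
  have h1 : ρ (g : G) (v - avg ρ J v) = v - avg ρ J v := by
    have := congrArg (fun φ : End F (CV ρ J) => ((φ (piW ρ J hJ v) : CV ρ J) : V)) hg
    exact this
  rw [map_sub, map_avg ρ J g.2] at h1
  show ρ (g : G) v = v
  exact sub_left_inj.mp h1

theorem map_CV_rW (hJ : (Nat.card J : F) ≠ 0) {R : Subgroup G} (hR : R ≤ J) :
    (CV (rW ρ J) (R.subgroupOf J)).map (CV ρ J).subtype = CV ρ R := by
  apply le_antisymm
  · rw [Submodule.map_le_iff_le_comap]
    refine CV_le fun d hd => ?_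
    rintro _ ⟨w, rfl⟩
    show ρ (d : G) w - w ∈ CV ρ R
    exact sub_mem_CV ρ (Subgroup.mem_subgroupOf.mp hd) _
  · refine CV_le fun d hd => ?_
    rintro _ ⟨v, rfl⟩
    refine ⟨(rW ρ J ⟨d, hR hd⟩ - 1) (piW ρ J hJ v), ?_, ?_⟩
    · exact range_le_CV (rW ρ J) (Subgroup.mem_subgroupOf.mpr hd) ⟨_, rfl⟩
    · show ρ d (v - avg ρ J v) - (v - avg ρ J v) = ρ d v - v
      rw [map_sub, map_avg ρ J (hR hd)]
      abel

theorem mem_CV_rW (hJ : (Nat.card J : F) ≠ 0) {R : Subgroup G} (hR : R ≤ J) (w : CV ρ J) :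
    w ∈ CV (rW ρ J) (R.subgroupOf J) ↔ (w : V) ∈ CV ρ R := by
  rw [← map_CV_rW ρ J hJ hR]
  constructor
  · intro h
    exact ⟨w, h, rfl⟩
  · rintro ⟨w', hw', h⟩
    have : w' = w := Subtype.ext h
    rwa [← this]

theorem qr_rW [FiniteDimensional F V] (hJ : (Nat.card J : F) ≠ 0) {R : Subgroup G} (hR : R ≤ J)
    (h : QR ρ R) : QR (rW ρ J) (R.subgroupOf J) where
  pg := by
    have h1 := h.pg
    exact h1.of_equiv (Subgroup.subgroupOfEquivOfLe hR).symm
  dim := by
    rw [← h.dim, ← map_CV_rW ρ J hJ hR]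
    exact (Submodule.finrank_map_subtype_eq _ _).symm
  irr := by
    intro M hM hinv
    rcases h.irr (M.map (CV ρ J).subtype) (by
      rw [← map_CV_rW ρ J hJ hR]
      exact Submodule.map_mono hM) (by
      rintro r hr _ ⟨m, hm, rfl⟩
      exact ⟨_, hinv ⟨r, hR hr⟩ (Subgroup.mem_subgroupOf.mpr hr) m hm, rfl⟩) with h1 | h1
    · left
      rw [← Submodule.map_bot (CV ρ J).subtype] at h1
      exact Submodule.map_injective_of_injective (CV ρ J).subtype_injective h1
    · right
      rw [← map_CV_rW ρ J hJ hR] at h1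
      exact Submodule.map_injective_of_injective (CV ρ J).subtype_injective h1
  sq := by
    intro a ha
    rcases h.sq a (Subgroup.mem_subgroupOf.mp ha) with h1 | h1
    · left
      intro u hu
      apply Subtype.ext
      exact h1 u ((mem_CV_rW ρ J hJ hR u).mp hu)
    · right
      intro u hu
      apply Subtype.ext
      exact h1 u ((mem_CV_rW ρ J hJ hR u).mp hu)
  gen := by
    obtain ⟨S, hS, hS'⟩ := h.gen
    refine ⟨{x | (x : G) ∈ S}, ?_, ?_⟩
    · apply Subgroup.map_injective J.subtype_injective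
      rw [MonoidHom.map_closure, Subgroup.subgroupOf, Subgroup.map_comap_eq, Subgroup.range_subtype,
        inf_eq_right.mpr hR, ← hS]
      congr 1
      ext x
      constructor
      · rintro ⟨y, hy, rfl⟩
        exact hy
      · intro hx
        exact ⟨⟨x, hR (hS ▸ Subgroup.subset_closure hx)⟩, hx, rfl⟩
    · intro x hx
      obtain ⟨h1, h2⟩ := hS' x hx
      refine ⟨Subtype.ext h1, le_trans ?_ h2⟩
      unfold rk
      have h3 : (LinearMap.range (rW ρ J x - 1)).map (CV ρ J).subtype ≤ LinearMap.range (ρ (x : G) - 1) := by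
        rintro _ ⟨_, ⟨w, rfl⟩, rfl⟩
        exact ⟨w, rfl⟩
      have h4 := Submodule.finrank_mono h3
      rwa [Submodule.finrank_map_subtype_eq] at h4
  scal := by
    intro φ hφ
    obtain ⟨c, hc⟩ := h.scal ((CV ρ J).subtype ∘ₗ φ ∘ₗ piW ρ J hJ) (by
      intro r hr v
      show ((φ (piW ρ J hJ (ρ r v)) : CV ρ J) : V) = ρ r (φ (piW ρ J hJ v))
      have h1 : piW ρ J hJ (ρ r v) = rW ρ J ⟨r, hR hr⟩ (piW ρ J hJ v) := by
        apply Subtype.ext
        show ρ r v - avg ρ J (ρ r v) = ρ r (v - avg ρ J v)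
        rw [avg_map ρ J (hR hr), map_sub, map_avg ρ J (hR hr)]
      rw [h1, hφ ⟨r, hR hr⟩ (Subgroup.mem_subgroupOf.mpr hr)]
      rfl)
    refine ⟨c, fun u hu => ?_⟩
    apply Subtype.ext
    have h1 := hc u ((mem_CV_rW ρ J hJ hR u).mp hu)
    have h2 : piW ρ J hJ (u : V) = u := piW_of_mem ρ J hJ u.2
    have h3 : ((φ (piW ρ J hJ (u : V)) : CV ρ J) : V) = c • (u : V) := h1
    rw [h2] at h3
    exact h3

end transfer

theorem CV_sup (ρ : Representation F G V) (R R' : Subgroup G) : CV ρ (R ⊔ R') = CV ρ R ⊔ CV ρ R' := by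
  apply le_antisymm
  · have h1 : R ⊔ R' = Subgroup.closure ((R : Set G) ∪ R') := by
      rw [Subgroup.closure_union, Subgroup.closure_eq, Subgroup.closure_eq]
    rw [h1]
    refine CV_closure_le ?_
    rintro s (hs | hs)
    · exact (range_le_CV ρ hs).trans le_sup_left
    · exact (range_le_CV ρ hs).trans le_sup_right
  · exact sup_le (CV_mono ρ le_sup_left) (CV_mono ρ le_sup_right)

/-- a trivial action on `[V, R]` gives orthogonality -/
theorem orth_of_fix (ρ : Representation F G V) (f : V →ₗ[F] V →ₗ[F] F)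
    (hf : ∀ g u v, f (ρ g u) (ρ g v) = f u v) {R' : Subgroup G} {U : Submodule F V}
    (h : ∀ r ∈ R', ∀ u ∈ U, ρ r u = u) : ∀ u ∈ U, ∀ u' ∈ CV ρ R', f u u' = 0 := by
  intro u hu
  have h1 : CV ρ R' ≤ LinearMap.ker (f u) := by
    refine CV_le fun d hd => ?_
    rintro _ ⟨v, rfl⟩
    show f u (ρ d v - v) = 0
    rw [map_sub]
    have h2 := hf d u v
    rw [h d hd u hu] at h2
    rw [h2, sub_self]
  intro u' hu'
  exact h1 hu'

/-- **Claim (B)** -/
theorem claimB [Finite G] [FiniteDimensional F V] (ρ : Representation F G V)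
    (hρ : Function.Injective ρ) (h2 : (2 : F) ≠ 0) (f : V →ₗ[F] V →ₗ[F] F)
    (hf : ∀ g u v, f (ρ g u) (ρ g v) = f u v) (hsym : ∀ u v, f u v = f v u)
    (hnd : ∀ x, (∀ y, f y x = 0) → x = 0) {R R' : Subgroup G} (hR : QR ρ R) (hR' : QR ρ R')
    (h3 : ¬ 3 ∣ Nat.card (R ⊔ R' : Subgroup G)) (hJ : (Nat.card (R ⊔ R' : Subgroup G) : F) ≠ 0)
    (hs : Group.IsSolvable (R ⊔ R' : Subgroup G)) :
    CV ρ R = CV ρ R' ∨ ∀ u ∈ CV ρ R, ∀ u' ∈ CV ρ R', f u u' = 0 := by
  by_contra hcon
  push Not at hcon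
  obtain ⟨hne, horth⟩ := hcon
  have horth' : ¬ ∀ u ∈ CV ρ R, ∀ u' ∈ CV ρ R', f u u' = 0 := by
    push Not; exact horth
  set J := R ⊔ R' with hJdef
  have hRJ : R ≤ J := le_sup_left
  have hR'J : R' ≤ J := le_sup_right
  have hWs : CV ρ J = CV ρ R ⊔ CV ρ R' := CV_sup ρ R R'
  -- irreducibility
  have hirr : ∀ M : Submodule F V, M ≤ CV ρ J → (∀ g ∈ J, ∀ m ∈ M, ρ g m ∈ M) → M = ⊥ ∨ M = CV ρ J := by
    intro M hM hinv
    have h4 := hR.irr (M ⊓ CV ρ R) inf_le_right (fun r hr m hm =>
      ⟨hinv r (hRJ hr) m hm.1, CV_inv ρ hr hm.2⟩)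
    have h5 := hR'.irr (M ⊓ CV ρ R') inf_le_right (fun r hr m hm =>
      ⟨hinv r (hR'J hr) m hm.1, CV_inv ρ hr hm.2⟩)
    have htriv : ∀ {X : Subgroup G}, X ≤ J → M ⊓ CV ρ X = ⊥ → ∀ r ∈ X, ∀ m ∈ M, ρ r m = m := by
      intro X hX h0 r hr m hm
      have h6 : ρ r m - m ∈ M ⊓ CV ρ X :=
        ⟨Submodule.sub_mem _ (hinv r (hX hr) m hm) hm, sub_mem_CV ρ hr m⟩
      rw [h0, Submodule.mem_bot] at h6
      exact sub_eq_zero.mp h6
    rcases h4 with h4 | h4 <;> rcases h5 with h5 | h5
    · -- trivial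
      left
      rw [eq_bot_iff]
      intro m hm
      have h6 : ∀ g ∈ J, ρ g m = m := by
        intro g hg
        have h7 : J ≤ (MonoidHom.toHomUnits (ρ : G →* End F V)).ker.comap (MonoidHom.id G) ⊔ ⊤ := le_top.trans le_sup_right
        have h8 : g ∈ Subgroup.closure ((R : Set G) ∪ R') := by
          rw [Subgroup.closure_union, Subgroup.closure_eq, Subgroup.closure_eq]
          exact hg
        clear h7
        induction h8 using Subgroup.closure_induction with
        | mem x hx =>
          rcases hx with hx | hx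
          · exact htriv hRJ h4 x hx m hm
          · exact htriv hR'J h5 x hx m hm
        | one => exact one_ap ρ m
        | mul a b ha hb iha ihb =>
          have haJ : a ∈ J := by
            rw [hJdef, ← Subgroup.closure_eq R, ← Subgroup.closure_eq R', ← Subgroup.closure_union]
            exact ha
          have hbJ : b ∈ J := by
            rw [hJdef, ← Subgroup.closure_eq R, ← Subgroup.closure_eq R', ← Subgroup.closure_union]
            exact hb
          rw [mul_ap, ihb hbJ, iha haJ]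
        | inv a ha iha =>
          have haJ : a ∈ J := by
            rw [hJdef, ← Subgroup.closure_eq R, ← Subgroup.closure_eq R', ← Subgroup.closure_union]
            exact ha
          have := iha haJ
          conv_lhs => rw [← this, inv_ap]
      have h9 := avg_fixed ρ J hJ h6
      rw [avg_CV ρ J (hM hm)] at h9
      rw [← h9]
      exact Submodule.zero_mem _
    · -- `[V,R'] ≤ M`
      exfalso
      apply horth'
      have h6 : CV ρ R' ≤ M := inf_eq_right.mp h5
      intro u hu u' hu'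
      rw [hsym]
      exact orth_of_fix ρ f hf (U := M) (htriv hRJ h4) u' (h6 hu') u hu
    · exfalso
      apply horth'
      have h6 : CV ρ R ≤ M := inf_eq_right.mp h4
      intro u hu u' hu'
      exact orth_of_fix ρ f hf (U := M) (htriv hR'J h5) u (h6 hu) u' hu'
    · right
      apply le_antisymm hM
      rw [hWs]
      exact sup_le (inf_eq_right.mp h4) (inf_eq_right.mp h5)
  -- dimensions
  have hle : finrank F (CV ρ J) ≤ 8 := by
    rw [hWs]
    have := Submodule.finrank_add_le_finrank_add_finrank (CV ρ R) (CV ρ R')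
    rw [hR.dim, hR'.dim] at this
    exact this
  have hge : 5 ≤ finrank F (CV ρ J) := by
    by_contra hlt
    have h4 : finrank F (CV ρ J) ≤ 4 := by omega
    have h5 : CV ρ R = CV ρ J := Submodule.eq_of_le_of_finrank_le (CV_mono ρ hRJ) (by rw [hR.dim]; exact h4)
    have h6 : CV ρ R' = CV ρ J := Submodule.eq_of_le_of_finrank_le (CV_mono ρ hR'J) (by rw [hR'.dim]; exact h4)
    exact hne (h5.trans h6.symm)
  have hypo : Hyp (rW ρ J) (R.subgroupOf J) (R'.subgroupOf J) := by
    refine ⟨rW_inj ρ J hρ hJ, h2, hJ, h3, ?_, hge, hle, ?_, qr_rW ρ J hJ hRJ hR, qr_rW ρ J hJ hR'J hR', ?_, ?_⟩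
    · intro M hM
      rcases hirr (M.map (CV ρ J).subtype) (Submodule.map_subtype_le _ _) (by
        rintro g hg _ ⟨m, hm, rfl⟩
        exact ⟨_, hM ⟨g, hg⟩ m hm, rfl⟩) with h4 | h4
      · left
        rw [← Submodule.map_bot (CV ρ J).subtype] at h4
        exact Submodule.map_injective_of_injective (CV ρ J).subtype_injective h4
      · right
        have h5 : M.map (CV ρ J).subtype = (⊤ : Submodule F (CV ρ J)).map (CV ρ J).subtype := by
          rw [h4, Submodule.map_subtype_top]
        exact Submodule.map_injective_of_injective (CV ρ J).subtype_injective h5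
    · -- scalars
      rintro g ⟨c, hc⟩
      have hc' : ∀ w ∈ CV ρ J, ρ (g : G) w = c • w := fun w hw => congrArg Subtype.val (hc ⟨w, hw⟩)
      have hpair : ∃ w ∈ CV ρ J, ∃ w' ∈ CV ρ J, f w w' ≠ 0 := by
        by_contra hno
        push Not at hno
        have h4 : CV ρ J = ⊥ := by
          rw [eq_bot_iff]
          intro w hw
          rw [Submodule.mem_bot]
          apply hnd
          intro v
          have h5 : v = avg ρ J v + (v - avg ρ J v) := by abel
          rw [h5, map_add, LinearMap.add_apply, avg_adj ρ f hf, avg_CV ρ J hw, map_zero, zero_add]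
          exact hno _ (sub_avg_mem ρ J hJ v) w hw
        rw [h4, finrank_bot] at hge
        omega
      obtain ⟨w, hw, w', hw', hww⟩ := hpair
      have h4 := hf g w w'
      rw [hc' w hw, hc' w' hw', map_smul, map_smul, LinearMap.smul_apply, smul_smul, smul_eq_mul] at h4
      have h5 : c * c = 1 := by
        have : (c * c - 1) * f w w' = 0 := by rw [sub_mul, h4, one_mul, sub_self]
        exact sub_eq_zero.mp ((mul_eq_zero.mp this).resolve_right hww)
      rcases mul_self_eq_one_iff.mp h5 with rfl | rfl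
      · left
        intro v
        rw [hc, one_smul]
      · right
        intro v
        rw [hc, neg_smul, one_smul]
    · apply Subgroup.map_injective J.subtype_injective
      rw [Subgroup.map_sup, Subgroup.map_subgroupOf_eq_of_le hRJ, Subgroup.map_subgroupOf_eq_of_le hR'J,
        ← MonoidHom.range_eq_map, Subgroup.range_subtype]
    · apply Submodule.map_injective_of_injective (CV ρ J).subtype_injective
      rw [Submodule.map_sup, map_CV_rW ρ J hJ hRJ, map_CV_rW ρ J hJ hR'J, Submodule.map_subtype_top, hWs]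
  exact hypo.not_solvable hs

end Cfsg.Agent.H170.Fl
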