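import Cfsg.Agent.H170.HL.PZ

/-!
# Groups `R = 2^{1+4}_+` acting on a four-dimensional subspace (helper170)

`QR ρ R`: `R` is a 2-group, `U = [V, R]` has dimension 4, is absolutely irreducible for `R`, squares of elements of `R`
act on `U` as `±1`, and `R` is generated by involutions `x` with `dim [V, x] ≤ 2`.

`ClaimB ρ f`: if `R`, `R'` are such groups and `⟨R, R'⟩` has order prime to 3 and to the characteristic then `[V, R] =
[V, R']` or `[V, R]` and `[V, R']` are orthogonal. (Proved in `H170.Fl.Claim`.)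
-/

set_option autoImplicit false

namespace Cfsg.Agent.H170.Fl

open Module Cfsg.Agent.H167.OP Cfsg.Agent.H170.HL

variable {F : Type*} [Field F] {V : Type*} [AddCommGroup V] [Module F V] {G : Type*} [Group G]

/-- see the header -/
structure QR (ρ : Representation F G V) (R : Subgroup G) : Prop where
  pg : IsPGroup 2 R
  dim : finrank F (CV ρ R) = 4
  irr : ∀ M : Submodule F V, M ≤ CV ρ R → (∀ r ∈ R, ∀ m ∈ M, ρ r m ∈ M) → M = ⊥ ∨ M = CV ρ R
  sq : ∀ a ∈ R, (∀ u ∈ CV ρ R, ρ (a * a) u = u) ∨ (∀ u ∈ CV ρ R, ρ (a * a) u = -u)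
  gen : ∃ S : Set G, Subgroup.closure S = R ∧ ∀ x ∈ S, x * x = 1 ∧ rk ρ x ≤ 2
  scal : ∀ φ : Module.End F V, (∀ r ∈ R, ∀ v, φ (ρ r v) = ρ r (φ v)) → ∃ c : F, ∀ u ∈ CV ρ R, φ u = c • u

/-- the claim -/
def ClaimB (ρ : Representation F G V) (f : V →ₗ[F] V →ₗ[F] F) : Prop :=
  ∀ R R' : Subgroup G, QR ρ R → QR ρ R' → ¬ 3 ∣ Nat.card (R ⊔ R' : Subgroup G) →
    (Nat.card (R ⊔ R' : Subgroup G) : F) ≠ 0 →
    CV ρ R = CV ρ R' ∨ ∀ u ∈ CV ρ R, ∀ u' ∈ CV ρ R', f u u' = 0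

end Cfsg.Agent.H170.Fl
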