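import Mathlib

/-!
# Orbits of an `r`-group of automorphisms of a 2-group (helper170)

`r ≥ 5`, `σ ≠ 1` an automorphism of `r`-power order of the 2-group `Q`: at most `|Q|/4` orbits.
-/

set_option autoImplicit false

namespace Cfsg.Agent.H170.Fl

open MulAction

theorem orb_arith {r k j O A : ℕ} (hr : r.Prime) (hr5 : 5 ≤ r) (hjk : j < k)
    (hmod : 2 ^ k ≡ 2 ^ j [MOD r]) (hA : A ≤ 2 ^ j) (hO : r * O ≤ (r - 1) * A + 2 ^ k) :
    4 * O ≤ 2 ^ k := by
  obtain ⟨d, rfl⟩ := Nat.exists_eq_add_of_lt hjk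
  have h1 : r ∣ 2 ^ j * (2 ^ (d + 1) - 1) := by
    have h2 : r ∣ 2 ^ (j + d + 1) - 2 ^ j :=
      (Nat.modEq_iff_dvd' (Nat.pow_le_pow_right (by norm_num) (by omega))).mp hmod.symm
    have h3 : 2 ^ (j + d + 1) - 2 ^ j = 2 ^ j * (2 ^ (d + 1) - 1) := by
      rw [Nat.mul_sub, mul_one, ← pow_add, add_assoc]
    rwa [h3] at h2
  have h2 : r ∣ 2 ^ (d + 1) - 1 := by
    rcases (Nat.Prime.dvd_mul hr).mp h1 with h | h
    · have := hr.dvd_of_dvd_pow h
      have := Nat.le_of_dvd (by norm_num) this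
      omega
    · exact h
  have h4 : (r - 1) * A ≤ (r - 1) * 2 ^ j := Nat.mul_le_mul_left _ hA
  have hd : 2 ≤ d := by
    by_contra hcon
    have : d = 0 ∨ d = 1 := by omega
    rcases this with rfl | rfl
    · norm_num at h2
      omega
    · norm_num at h2
      have := Nat.le_of_dvd (by norm_num) h2
      omega
  obtain ⟨s, rfl⟩ : ∃ s, r = s + 5 := ⟨r - 5, by omega⟩
  set f := 2 ^ j with hf
  have hfpos : 0 < f := pow_pos (by norm_num) _
  by_cases hd2 : d = 2
  · subst hd2
    norm_num at h2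
    have h5 := (Nat.prime_dvd_prime_iff_eq hr (by norm_num : Nat.Prime 7)).mp h2
    have hs : s = 2 := by omega
    subst hs
    have h6 : 2 ^ (j + 2 + 1) = 8 * f := by rw [add_assoc, pow_add, ← hf]; ring
    rw [h6] at hO ⊢
    omega
  · obtain ⟨e, rfl⟩ : ∃ e, d = e + 3 := ⟨d - 3, by omega⟩
    have h6 : 2 ^ (j + (e + 3) + 1) = 16 * (2 ^ e * f) := by
      rw [show j + (e + 3) + 1 = e + j + 4 by ring, pow_add, pow_add, ← hf]; ring
    rw [h6] at hO ⊢
    have h7 : f ≤ 2 ^ e * f := Nat.le_mul_of_pos_left f (pow_pos (by norm_num) _)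
    set g := 2 ^ e * f with hg
    -- `r O ≤ (r-1) g + 16 g`
    have h8 : (s + 5) * O ≤ (s + 4) * g + 16 * g := by
      have h9 : (s + 5 - 1) * A ≤ (s + 4) * g := by
        refine h4.trans ?_
        have : s + 5 - 1 = s + 4 := by omega
        rw [this]
        exact Nat.mul_le_mul_left _ h7
      omega
    have h9 : (s + 4) * g + 16 * g = (s + 20) * g := by ring
    rw [h9] at h8
    by_contra hcon
    push Not at hcon
    have h10 : 4 * g + 1 ≤ O := by omega
    have h11 : (s + 5) * (4 * g + 1) ≤ (s + 5) * O := Nat.mul_le_mul_left _ h10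
    nlinarith

theorem exists_reps {Q : Type*} [Group Q] [Finite Q] (hQ : IsPGroup 2 Q) {r : ℕ} (hr : r.Prime)
    (hr5 : 5 ≤ r) (σ : MulAut Q) {a : ℕ} (hσ : σ ^ r ^ a = 1) (hσ1 : σ ≠ 1) :
    ∃ T : Set Q, 4 * T.ncard ≤ Nat.card Q ∧ ∀ q, ∃ t ∈ T, ∃ k : ℕ, (σ ^ k) t = q := by
  classical
  have : Fact r.Prime := ⟨hr⟩
  have : Fact (Nat.Prime 2) := ⟨Nat.prime_two⟩
  have : Fintype Q := Fintype.ofFinite Q
  let P := Subgroup.zpowers σ
  have hP : IsPGroup r P := by
    intro ⟨x, hx⟩
    obtain ⟨n, rfl⟩ := Subgroup.mem_zpowers_iff.mp hx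
    refine ⟨a, Subtype.ext ?_⟩
    show (σ ^ n) ^ r ^ a = 1
    rw [← zpow_natCast, ← zpow_mul, mul_comm, zpow_mul, zpow_natCast, hσ, one_zpow]
  have hfo : IsOfFinOrder σ := isOfFinOrder_iff_pow_eq_one.mpr ⟨r ^ a, pow_pos hr.pos _, hσ⟩
  -- the fixed points
  let Fx : Subgroup Q :=
    { carrier := {q | σ q = q}
      one_mem' := map_one σ
      mul_mem' := fun {x y} hx hy => by
        show σ (x * y) = x * y
        rw [map_mul, show σ x = x from hx, show σ y = y from hy]
      inv_mem' := fun {x} hx => by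
        show σ x⁻¹ = x⁻¹
        rw [map_inv, show σ x = x from hx] }
  have hFx : fixedPoints P Q = (Fx : Set Q) := by
    ext q
    constructor
    · intro h
      exact h ⟨σ, Subgroup.mem_zpowers σ⟩
    · rintro (h : σ q = q) ⟨x, hx⟩
      show x q = q
      have h1 : P ≤ MulAction.stabilizer (MulAut Q) q := by
        rw [Subgroup.zpowers_le]
        exact h
      exact h1 hx
  obtain ⟨k, hk⟩ := hQ.exists_card_eq
  obtain ⟨j, hj⟩ := (hQ.to_subgroup Fx).exists_card_eq
  have hjk : j < k := by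
    have h1 : Nat.card Fx ∣ Nat.card Q := Subgroup.card_subgroup_dvd_card Fx
    rw [hk, hj, Nat.pow_dvd_pow_iff_le_right (by norm_num)] at h1
    refine lt_of_le_of_ne h1 ?_
    rintro rfl
    have h2 : Fx = ⊤ := Subgroup.eq_top_of_card_eq Fx (by rw [hj, hk])
    apply hσ1
    ext q
    have : q ∈ Fx := by rw [h2]; trivial
    exact this
  have hmod : 2 ^ k ≡ 2 ^ j [MOD r] := by
    have h1 := hP.card_modEq_card_fixedPoints Q
    rw [hFx, hk] at h1
    have h2 : Nat.card ((Fx : Set Q)) = 2 ^ j := hj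
    rwa [h2] at h1
  let Om := orbitRel.Quotient P Q
  have : Fintype Om := Fintype.ofFinite Om
  let A : Finset Om := Finset.univ.filter fun ω => Quotient.out ω ∈ Fx
  have hA : A.card ≤ 2 ^ j := by
    rw [← hj, Nat.card_eq_fintype_card, ← Finset.card_univ]
    refine Finset.card_le_card_of_injOn (fun ω => if h : Quotient.out ω ∈ Fx then ⟨Quotient.out ω, h⟩ else 1)
      (fun _ _ => Finset.mem_coe.mpr (Finset.mem_univ _)) ?_
    intro ω hω ω' hω' heq
    have h1 : Quotient.out ω ∈ Fx := (Finset.mem_filter.mp hω).2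
    have h2 : Quotient.out ω' ∈ Fx := (Finset.mem_filter.mp hω').2
    simp only [dif_pos h1, dif_pos h2] at heq
    have h3 := congrArg Subtype.val heq
    exact Quotient.out_injective h3
  have hsum : ∑ ω : Om, Nat.card (orbit P (Quotient.out ω)) = 2 ^ k := by
    rw [← hk, Nat.card_congr (selfEquivSigmaOrbits P Q), Nat.card_sigma]
  have hge : ∀ ω : Om, (if ω ∈ A then 1 else r) ≤ Nat.card (orbit P (Quotient.out ω)) := by
    intro ω
    obtain ⟨n, hn⟩ := hP.card_orbit (Quotient.out ω)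
    split_ifs with h
    · rw [hn]
      exact Nat.one_le_pow _ _ hr.pos
    · rw [hn]
      have hn0 : n ≠ 0 := by
        rintro rfl
        rw [pow_zero] at hn
        apply h
        refine Finset.mem_filter.mpr ⟨Finset.mem_univ _, ?_⟩
        have h1 : Subsingleton (orbit P (Quotient.out ω)) := (Nat.card_eq_one_iff_unique.mp hn).1
        have h2 : Quotient.out ω ∈ fixedPoints P Q := by
          intro x
          have := @Subsingleton.elim _ h1 ⟨x • Quotient.out ω, mem_orbit _ _⟩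
            ⟨Quotient.out ω, mem_orbit_self _⟩
          exact congrArg Subtype.val this
        rw [hFx] at h2
        exact h2
      calc r = r ^ 1 := (pow_one r).symm
        _ ≤ r ^ n := Nat.pow_le_pow_right hr.pos (Nat.one_le_iff_ne_zero.mpr hn0)
  have hle : A.card + r * (Fintype.card Om - A.card) ≤ 2 ^ k := by
    rw [← hsum]
    refine le_trans (le_of_eq ?_) (Finset.sum_le_sum fun ω _ => hge ω)
    rw [Finset.sum_ite, Finset.sum_const, Finset.sum_const, smul_eq_mul, mul_one, smul_eq_mul,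
      Finset.filter_mem_eq_inter, Finset.univ_inter, Finset.filter_not, Finset.filter_mem_eq_inter,
      Finset.univ_inter, Finset.card_univ_sdiff, mul_comm]
  have hAle : A.card ≤ Fintype.card Om := Finset.card_le_univ A
  refine ⟨Set.range (fun ω : Om => Quotient.out ω), ?_, ?_⟩
  · have h1 : (Set.range (fun ω : Om => Quotient.out ω)).ncard = Fintype.card Om := by
      rw [Set.ncard_eq_toFinset_card', Set.toFinset_range, Finset.card_image_of_injective _
        Quotient.out_injective, Finset.card_univ]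
    rw [h1, hk]
    refine orb_arith hr hr5 hjk hmod hA ?_
    obtain ⟨B, hB⟩ := Nat.exists_eq_add_of_le hAle
    rw [hB, Nat.add_sub_cancel_left] at hle
    rw [hB]
    obtain ⟨s, rfl⟩ : ∃ s, r = s + 1 := ⟨r - 1, by have := hr.pos; omega⟩
    rw [Nat.add_sub_cancel]
    nlinarith
  · intro q
    refine ⟨_, ⟨(Quotient.mk'' q : Om), rfl⟩, ?_⟩
    have h1 : Quotient.out (Quotient.mk'' q : Om) ∈ orbit P q := by
      rw [← orbitRel_apply]
      exact Quotient.exact' (Quotient.out_eq' (Quotient.mk'' q : Om))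
    rw [mem_orbit_symm] at h1
    obtain ⟨⟨x, hx⟩, hxq⟩ := h1
    obtain ⟨n, rfl⟩ := (hfo.mem_zpowers_iff_mem_range_orderOf.mp hx |> fun h => by
      obtain ⟨n, -, hn⟩ := Finset.mem_image.mp h
      exact ⟨n, hn⟩ : ∃ n : ℕ, σ ^ n = x)
    exact ⟨n, hxq⟩

end Cfsg.Agent.H170.Fl
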