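import Cfsg.Agent.H170.Fl.Grade
import Cfsg.Agent.H170.Fl.Orb
import Cfsg.Agent.Involutions.BaerSuzuki

/-!
# No normal 2-subgroup outside `±1` (helper170)
-/

set_option autoImplicit false

namespace Cfsg.Agent.H170.Fl

open Module Cfsg.Agent.H167.OP Cfsg.Agent.H170.HL

/-- two involutions whose product has 2-power order -/
theorem isPGroup_pair {G : Type*} [Group G] {a b : G} (ha : a * a = 1) (hb : b * b = 1) {k : ℕ}
    (h : (a * b) ^ 2 ^ k = 1) : IsPGroup 2 (Subgroup.closure {a, b} : Subgroup G) := by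
  have hai : a⁻¹ = a := inv_eq_of_mul_eq_one_left ha
  have hbi : b⁻¹ = b := inv_eq_of_mul_eq_one_left hb
  have hconj : ∀ n : ℤ, a * (a * b) ^ n * a = (a * b) ^ (-n) := by
    intro n
    have h1 : a * (a * b) * a⁻¹ = (a * b)⁻¹ := by
      rw [mul_inv_rev, hai, hbi, ← mul_assoc, ha, one_mul]
    have h2 : a * (a * b) ^ n * a⁻¹ = (a * (a * b) * a⁻¹) ^ n := (conj_zpow).symm
    rw [h1, inv_zpow', hai] at h2
    exact h2
  have key : ∀ g ∈ Subgroup.closure {a, b},
      (∃ n : ℤ, g = (a * b) ^ n) ∨ ∃ n : ℤ, g = a * (a * b) ^ n := by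
    intro g hg
    induction hg using Subgroup.closure_induction with
    | mem x hx =>
      rcases hx with rfl | hx
      · exact Or.inr ⟨0, by rw [zpow_zero, mul_one]⟩
      · rw [Set.mem_singleton_iff] at hx
        subst hx
        exact Or.inr ⟨1, by rw [zpow_one, ← mul_assoc, ha, one_mul]⟩
    | one => exact Or.inl ⟨0, (zpow_zero _).symm⟩
    | mul x y _ _ hx hy =>
      rcases hx with ⟨n, rfl⟩ | ⟨n, rfl⟩ <;> rcases hy with ⟨m, rfl⟩ | ⟨m, rfl⟩
      · exact Or.inl ⟨n + m, (zpow_add _ _ _).symm⟩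
      · refine Or.inr ⟨-n + m, ?_⟩
        rw [zpow_add, ← hconj n, mul_assoc, mul_assoc, ← mul_assoc a a, ha, one_mul]
      · exact Or.inr ⟨n + m, by rw [zpow_add, mul_assoc]⟩
      · refine Or.inl ⟨-n + m, ?_⟩
        rw [zpow_add, ← hconj n]
        simp only [mul_assoc]
    | inv x _ hx =>
      rcases hx with ⟨n, rfl⟩ | ⟨n, rfl⟩
      · exact Or.inl ⟨-n, (zpow_neg _ _).symm⟩
      · refine Or.inr ⟨n, ?_⟩
        rw [mul_inv_rev, ← zpow_neg, ← hconj n, hai, mul_assoc, ha, mul_one]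
  intro ⟨g, hg⟩
  rcases key g hg with ⟨n, rfl⟩ | ⟨n, rfl⟩
  · refine ⟨k, Subtype.ext ?_⟩
    show ((a * b) ^ n) ^ 2 ^ k = 1
    rw [← zpow_natCast, ← zpow_mul, mul_comm, zpow_mul, zpow_natCast, h, one_zpow]
  · refine ⟨1, Subtype.ext ?_⟩
    show (a * (a * b) ^ n) ^ 2 ^ 1 = 1
    rw [pow_one, pow_two]
    have h1 : a * (a * b) ^ n * (a * (a * b) ^ n) = (a * (a * b) ^ n * a) * (a * b) ^ n := by group
    rw [h1, hconj, ← zpow_add, neg_add_cancel, zpow_zero]

variable {F : Type*} [Field F] {V : Type*} [AddCommGroup V] [Module F V] {G : Type*} [Group G]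

theorem rk_mul_le [FiniteDimensional F V] (ρ : Representation F G V) (x y : G) :
    rk ρ (x * y) ≤ rk ρ x + rk ρ y := by
  have h1 : LinearMap.range (ρ (x * y) - 1) ≤
      LinearMap.range (ρ x - 1) ⊔ (LinearMap.range (ρ y - 1)).map (ρ x) := by
    rintro _ ⟨v, rfl⟩
    have h2 : (ρ (x * y) - 1) v = (ρ x v - v) + ρ x (ρ y v - v) := by
      show ρ (x * y) v - v = _
      rw [mul_ap, map_sub]
      abel
    rw [h2]
    exact Submodule.add_mem_sup ⟨v, rfl⟩ ⟨_, ⟨v, rfl⟩, rfl⟩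
  have h2 := Submodule.finrank_mono h1
  have h3 := Submodule.finrank_add_le_finrank_add_finrank (LinearMap.range (ρ x - 1))
    ((LinearMap.range (ρ y - 1)).map (ρ x))
  have h4 := Submodule.finrank_map_le (ρ x) (LinearMap.range (ρ y - 1))
  unfold rk
  omega

theorem rk_pow_le [FiniteDimensional F V] (ρ : Representation F G V) (x : G) (n : ℕ) :
    rk ρ (x ^ n) ≤ rk ρ x := by
  apply Submodule.finrank_mono
  rintro _ ⟨v, rfl⟩
  show ρ (x ^ n) v - v ∈ LinearMap.range (ρ x - 1)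
  induction n with
  | zero => rw [pow_zero, one_ap, sub_self]; exact Submodule.zero_mem _
  | succ n ih =>
    have h1 : ρ (x ^ (n + 1)) v - v = (ρ (x ^ (n + 1)) v - ρ (x ^ n) v) + (ρ (x ^ n) v - v) := by abel
    rw [h1]
    exact Submodule.add_mem _ (pow_sub_mem_range ρ x n v) ih

/-- **a lower bound for the centraliser of `y`** -/
theorem le_finrank_Cy [Finite G] [FiniteDimensional F V] (ρ : Representation F G V) {y : G}
    (hcard : (Nat.card (Subgroup.zpowers y) : F) ≠ 0) (hy : ρ y ≠ 1) :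
    (finrank F V - rk ρ y) * (finrank F V - rk ρ y) + 1 ≤ finrank F (Gr.Cy ρ y) := by
  classical
  set E := Subgroup.zpowers y with hE
  let W := LinearMap.ker (ρ y - 1)
  have hW : ∀ v ∈ W, ρ y v = v := fun v hv => sub_eq_zero.mp hv
  have hWE : ∀ v ∈ W, ∀ e ∈ E, ρ e v = v := by
    intro v hv e he
    obtain ⟨n, rfl⟩ := (mem_zpowers_iff_mem_range_orderOf.mp he |> fun h => by
      obtain ⟨n, -, hn⟩ := Finset.mem_image.mp h
      exact ⟨n, hn⟩ : ∃ n : ℕ, y ^ n = e)
    induction n with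
    | zero => rw [pow_zero, one_ap]
    | succ n ih =>
      rw [pow_succ', mul_ap, ih ⟨n, by simp⟩, hW v hv]
  let π : V →ₗ[F] W := (avg ρ E).codRestrict W fun v => by
    show ρ y (avg ρ E v) - avg ρ E v = 0
    rw [map_avg ρ E (Subgroup.mem_zpowers y), sub_self]
  have hπ : ∀ w : W, π w = w := by
    intro w
    apply Subtype.ext
    show avg ρ E (w : V) = w
    exact avg_fixed ρ E hcard (hWE w w.2)
  have hπy : ∀ v, π (ρ y v) = π v := by
    intro v
    apply Subtype.ext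
    exact avg_map ρ E (Subgroup.mem_zpowers y) v
  let L : (End F W × F) →ₗ[F] Gr.Cy ρ y :=
    { toFun := fun p => ⟨W.subtype ∘ₗ p.1 ∘ₗ π + p.2 • (1 - W.subtype ∘ₗ π), by
        show ρ y * _ = _ * ρ y
        apply LinearMap.ext
        intro v
        show ρ y ((p.1 (π v) : V) + p.2 • (v - (π v : V))) =
          (p.1 (π (ρ y v)) : V) + p.2 • (ρ y v - (π (ρ y v) : V))
        rw [map_add, map_smul, map_sub, hW _ (p.1 (π v)).2, hW _ (π v).2, hπy]⟩
      map_add' := fun p q => by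
        apply Subtype.ext
        show W.subtype ∘ₗ (p.1 + q.1) ∘ₗ π + (p.2 + q.2) • (1 - W.subtype ∘ₗ π) =
          (W.subtype ∘ₗ p.1 ∘ₗ π + p.2 • (1 - W.subtype ∘ₗ π)) +
          (W.subtype ∘ₗ q.1 ∘ₗ π + q.2 • (1 - W.subtype ∘ₗ π))
        rw [LinearMap.add_comp, LinearMap.comp_add, add_smul]
        abel
      map_smul' := fun c p => by
        apply Subtype.ext
        show W.subtype ∘ₗ (c • p.1) ∘ₗ π + (c * p.2) • (1 - W.subtype ∘ₗ π) =
          c • (W.subtype ∘ₗ p.1 ∘ₗ π + p.2 • (1 - W.subtype ∘ₗ π))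
        rw [LinearMap.smul_comp, LinearMap.comp_smul, mul_smul, smul_add] }
  have hL : Function.Injective L := by
    rw [injective_iff_map_eq_zero]
    rintro ⟨A, c⟩ hA
    have h1 : ∀ v, (A (π v) : V) + c • (v - (π v : V)) = 0 := by
      intro v
      have := congrArg Subtype.val hA
      exact LinearMap.congr_fun this v
    have hA0 : A = 0 := by
      apply LinearMap.ext
      intro w
      have h2 := h1 w
      rw [hπ, sub_self, smul_zero, add_zero] at h2
      exact Subtype.ext h2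
    have hc0 : c = 0 := by
      by_contra hc
      apply hy
      apply LinearMap.ext
      intro v
      have h2 := h1 v
      rw [hA0] at h2
      have h3 : c • (v - (π v : V)) = 0 := by
        simpa using h2
      have h4 := (smul_eq_zero.mp h3).resolve_left hc
      have h5 : v = (π v : V) := sub_eq_zero.mp h4
      show ρ y v = v
      rw [h5]
      exact hW _ (π v).2
    rw [hA0, hc0]
    rfl
  have h1 := LinearMap.finrank_le_finrank_of_injective hL
  rw [Module.finrank_prod, Module.finrank_linearMap, Module.finrank_self] at h1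
  have h2 := LinearMap.finrank_range_add_finrank_ker (ρ y - 1)
  have h3 : finrank F W = finrank F V - rk ρ y := by
    unfold rk
    show finrank F (LinearMap.ker (ρ y - 1)) = _
    omega
  rw [h3] at h1
  exact h1

section main

variable {ρ : Representation F G V} {R R' : Subgroup G}

variable (ρ) in
/-- the action of `G` on `N/X` -/
noncomputable def act (N : Subgroup G) [hN : N.Normal] : G →* MulAut (Gr.QQ ρ N) where
  toFun g := QuotientGroup.congr _ _ (MulAut.conjNormal g) (by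
    apply le_antisymm
    · rintro _ ⟨n, hn, rfl⟩
      rw [SetLike.mem_coe, Subgroup.mem_subgroupOf] at hn
      rw [Subgroup.mem_subgroupOf]
      exact (inferInstance : (Sc ρ).Normal).conj_mem _ hn g
    · intro n hn
      refine ⟨MulAut.conjNormal g⁻¹ n, ?_, ?_⟩
      · rw [Subgroup.mem_subgroupOf] at hn
        rw [SetLike.mem_coe, Subgroup.mem_subgroupOf]
        exact (inferInstance : (Sc ρ).Normal).conj_mem _ hn g⁻¹
      · apply Subtype.ext
        show g * (g⁻¹ * (n : G) * g⁻¹⁻¹) * g⁻¹ = n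
        group)
  map_one' := by
    apply MulEquiv.ext
    intro q
    obtain ⟨n, rfl⟩ := QuotientGroup.mk_surjective q
    show (QuotientGroup.mk (MulAut.conjNormal (1 : G) n) : Gr.QQ ρ N) = QuotientGroup.mk n
    rw [map_one]
    rfl
  map_mul' g g' := by
    apply MulEquiv.ext
    intro q
    obtain ⟨n, rfl⟩ := QuotientGroup.mk_surjective q
    show (QuotientGroup.mk (MulAut.conjNormal (g * g') n) : Gr.QQ ρ N) =
      QuotientGroup.mk (MulAut.conjNormal g (MulAut.conjNormal g' n))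
    rw [map_mul]
    rfl

theorem act_mk (N : Subgroup G) [hN : N.Normal] (g : G) (n : N) :
    act ρ N g (QuotientGroup.mk n) = QuotientGroup.mk ⟨g * n * g⁻¹, hN.conj_mem n n.2 g⟩ := rfl

theorem Hyp.not_fixed [Finite G] (h : Hyp ρ R R') {N : Subgroup G} (hN : N.Normal) (h2 : IsPGroup 2 N)
    (hsq : ∀ a ∈ N, a * a ∈ Sc ρ) {n : G} (hn : n ∈ N) (hf : ∀ g, g * n * g⁻¹ * n⁻¹ ∈ Sc ρ) :
    n ∈ Sc ρ := by
  have hc : ∀ a ∈ Sc ρ, ∀ g : G, g * a = a * g := fun a ha g => Sc_comm h.inj ha g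
  let A : Subgroup G :=
    { carrier := {a | a ∈ N ∧ (a ∈ Sc ρ ∨ n⁻¹ * a ∈ Sc ρ)}
      one_mem' := ⟨N.one_mem, Or.inl (Subgroup.one_mem _)⟩
      mul_mem' := by
        rintro a b ⟨ha, ha'⟩ ⟨hb, hb'⟩
        refine ⟨N.mul_mem ha hb, ?_⟩
        rcases ha' with ha' | ha' <;> rcases hb' with hb' | hb'
        · exact Or.inl ((Sc ρ).mul_mem ha' hb')
        · right
          have h1 : n⁻¹ * (a * b) = a * (n⁻¹ * b) := by
            rw [← mul_assoc, hc a ha', mul_assoc]
          rw [h1]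
          exact (Sc ρ).mul_mem ha' hb'
        · right
          rw [← mul_assoc]
          exact (Sc ρ).mul_mem ha' hb'
        · left
          have h1 : a * b = (n * n) * ((n⁻¹ * a) * (n⁻¹ * b)) := by
            have h2 := hc _ ha' n⁻¹
            calc a * b = n * (n⁻¹ * a) * b := by group
              _ = n * n * (n⁻¹ * (n⁻¹ * a)) * b := by group
              _ = n * n * ((n⁻¹ * a) * n⁻¹) * b := by rw [h2]
              _ = _ := by group
          rw [h1]
          exact (Sc ρ).mul_mem (hsq n hn) ((Sc ρ).mul_mem ha' hb')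
      inv_mem' := by
        rintro a ⟨ha, ha'⟩
        refine ⟨N.inv_mem ha, ?_⟩
        rcases ha' with ha' | ha'
        · exact Or.inl ((Sc ρ).inv_mem ha')
        · right
          have h1 : n⁻¹ * a⁻¹ = (n⁻¹ * a)⁻¹ * (n * n)⁻¹ := by
            have h2 := hc _ ((Sc ρ).inv_mem ha') n⁻¹
            calc n⁻¹ * a⁻¹ = n⁻¹ * (n⁻¹ * a)⁻¹ * n⁻¹ := by group
              _ = (n⁻¹ * a)⁻¹ * n⁻¹ * n⁻¹ := by rw [h2]
              _ = _ := by group
          rw [h1]
          exact (Sc ρ).mul_mem ((Sc ρ).inv_mem ha') ((Sc ρ).inv_mem (hsq n hn)) }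
  have hA : A.Normal := by
    refine ⟨?_⟩
    rintro a ⟨ha, ha'⟩ g
    refine ⟨hN.conj_mem a ha g, ?_⟩
    rcases ha' with ha' | ha'
    · exact Or.inl ((inferInstance : (Sc ρ).Normal).conj_mem a ha' g)
    · right
      have h1 : n⁻¹ * (g * a * g⁻¹) = (g * n * g⁻¹ * n⁻¹) * (g * (n⁻¹ * a) * g⁻¹) := by
        have h2 := hc _ (hf g) n⁻¹
        have h3 : n⁻¹ * (g * a * g⁻¹) = (n⁻¹ * (g * n * g⁻¹ * n⁻¹)) * (n * (g * (n⁻¹ * a) * g⁻¹)) := by group
        rw [h3, h2]
        group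
      rw [h1]
      exact (Sc ρ).mul_mem (hf g) ((inferInstance : (Sc ρ).Normal).conj_mem _ ha' g)
  have hab : ∀ a ∈ A, ∀ b ∈ A, a * b = b * a := by
    rintro a ⟨ha, ha'⟩ b ⟨hb, hb'⟩
    rcases ha' with ha' | ha'
    · exact (hc a ha' b).symm
    rcases hb' with hb' | hb'
    · exact hc b hb' a
    · have h1 := hc _ ha' n
      have h2 := hc _ hb' n
      have h3 := hc _ hb' (n⁻¹ * a)
      calc a * b = n * ((n⁻¹ * a) * n) * (n⁻¹ * b) := by group
        _ = n * (n * (n⁻¹ * a)) * (n⁻¹ * b) := by rw [h1]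
        _ = n * n * ((n⁻¹ * a) * (n⁻¹ * b)) := by group
        _ = n * n * ((n⁻¹ * b) * (n⁻¹ * a)) := by rw [h3]
        _ = n * (n * (n⁻¹ * b)) * (n⁻¹ * a) := by group
        _ = n * ((n⁻¹ * b) * n) * (n⁻¹ * a) := by rw [h2]
        _ = b * a := by group
  exact h.abel_two (A := A) hab (h2.to_le fun x hx => hx.1)
    ⟨hn, Or.inr (by rw [inv_mul_cancel]; exact Subgroup.one_mem _)⟩

theorem Hyp.no_ext [Finite G] (h : Hyp ρ R R') {N : Subgroup G} (hN : N.Normal) (h2 : IsPGroup 2 N)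
    (hne : ¬ N ≤ Sc ρ) (hcomm : ∀ a ∈ N, ∀ b ∈ N, a * b * a⁻¹ * b⁻¹ ∈ Sc ρ)
    (hsq : ∀ a ∈ N, a * a ∈ Sc ρ) (hcen : ∀ a ∈ N, (∀ b ∈ N, a * b = b * a) → a ∈ Sc ρ) : False := by
  classical
  have := h.finDim
  have := h.nontriv
  have hf2 : Fact (Nat.Prime 2) := ⟨Nat.prime_two⟩
  have hgr : Gr ρ N := ⟨h.inj, h.two, h.card_ne N, hcomm, hcen⟩
  have : Fintype N := Fintype.ofFinite N
  have : Fintype (Gr.QQ ρ N) := Fintype.ofFinite _
  have hQ2 : IsPGroup 2 (Gr.QQ ρ N) := h2.to_quotient _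
  obtain ⟨k, hk⟩ := hQ2.exists_card_eq
  have hdim := hgr.finrank_end
  rw [← Nat.card_eq_fintype_card, hk] at hdim
  have hk0 : k ≠ 0 := by
    rintro rfl
    rw [pow_zero] at hk
    apply hne
    intro a ha
    have h1 : Subsingleton (Gr.QQ ρ N) := (Nat.card_eq_one_iff_unique.mp hk).1
    have h3 : (QuotientGroup.mk (⟨a, ha⟩ : N) : Gr.QQ ρ N) = 1 := Subsingleton.elim _ _
    rw [QuotientGroup.eq_one_iff, Subgroup.mem_subgroupOf] at h3
    exact h3
  -- no fixed points
  have hfix : ∀ q : Gr.QQ ρ N, (∀ g, act ρ N g q = q) → q = 1 := by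
    intro q hq
    obtain ⟨n, rfl⟩ := QuotientGroup.mk_surjective q
    rw [QuotientGroup.eq_one_iff, Subgroup.mem_subgroupOf]
    refine h.not_fixed hN h2 hsq n.2 fun g => ?_
    have h1 := hq g
    rw [act_mk, eq_comm, QuotientGroup.eq, Subgroup.mem_subgroupOf] at h1
    have h3 : (n : G)⁻¹ * (g * n * g⁻¹) ∈ Sc ρ := h1
    have h4 := (inferInstance : (Sc ρ).Normal).conj_mem _ h3 n
    have h5 : (n : G) * ((n : G)⁻¹ * (g * n * g⁻¹)) * (n : G)⁻¹ = g * n * g⁻¹ * (n : G)⁻¹ := by group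
    rw [h5] at h4
    exact h4
  have hnot : ¬ IsPGroup 2 (act ρ N).range := by
    intro hP
    have h1 : 2 ∣ Nat.card (Gr.QQ ρ N) := by
      rw [hk]; exact dvd_pow_self 2 hk0
    have h3 : (1 : Gr.QQ ρ N) ∈ MulAction.fixedPoints (act ρ N).range (Gr.QQ ρ N) := by
      intro x
      exact map_one (x : MulAut (Gr.QQ ρ N))
    obtain ⟨q, hq, hq1⟩ := hP.exists_fixed_point_of_prime_dvd_card_of_fixed_point _ h1 h3
    exact hq1 (hfix q fun g => hq ⟨act ρ N g, ⟨g, rfl⟩⟩).symm
  have hcr : Nat.card (act ρ N).range ∣ Nat.card G := Subgroup.card_range_dvd _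
  have hsmall : 3 ≤ k := by
    by_contra hcon
    have hk2 : k = 1 ∨ k = 2 := by omega
    apply hnot
    have h1 : Nat.card (act ρ N).range ∣ Nat.card (Equiv.Perm (Gr.QQ ρ N)) := by
      have h3 : Nat.card (act ρ N).range =
          Nat.card ((act ρ N).range.map (MulAut.toPerm (Gr.QQ ρ N))) := by
        refine (Subgroup.card_map_of_injective ?_).symm
        intro x y hxy
        apply MulEquiv.ext
        intro q
        exact Equiv.congr_fun hxy q
      rw [h3]
      exact Subgroup.card_subgroup_dvd_card _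
    rw [Nat.card_perm, hk] at h1
    have h3 : ¬ 3 ∣ Nat.card (act ρ N).range := fun h' => h.three (h'.trans hcr)
    have h4 : Nat.card (act ρ N).range ∣ 8 := by
      have h5 : Nat.card (act ρ N).range ∣ 8 * 3 := by
        rcases hk2 with rfl | rfl
        · exact h1.trans (by decide)
        · exact h1.trans (by decide)
      exact ((Nat.Prime.coprime_iff_not_dvd Nat.prime_three).mpr h3).symm.dvd_of_dvd_mul_right h5
    rw [IsPGroup.iff_card]
    obtain ⟨n, -, hn⟩ := (Nat.dvd_prime_pow Nat.prime_two).mp (show _ ∣ 2 ^ 3 from h4)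
    exact ⟨n, hn⟩
  -- the dimension is 8
  have hd : finrank F V = 8 := by
    have h5 := h.five
    have h8 := h.eight
    obtain ⟨j, rfl⟩ : ∃ j, k = j + 3 := ⟨k - 3, by omega⟩
    rw [pow_add] at hdim
    norm_num at hdim
    set d := finrank F V with hd
    have h9 : 8 ∣ d * d := by
      rw [hdim]
      exact ⟨2 ^ j * finrank F (Cm ρ N), by ring⟩
    interval_cases d
    · omega
    · omega
    · omega
    · rfl
  -- Baer–Suzuki
  have hbs : ∃ x ∈ SI ρ, ∃ x' ∈ SI ρ,
      ¬ IsPGroup 2 (Subgroup.closure {act ρ N x, act ρ N x'} : Subgroup (MulAut (Gr.QQ ρ N))) := by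
    by_contra hcon
    push Not at hcon
    apply hnot
    let A := act ρ N
    let K : Set A.range := {a | ∃ x ∈ SI ρ, (a : MulAut (Gr.QQ ρ N)) = A x}
    have hK : ∀ g : A.range, ∀ a ∈ K, g * a * g⁻¹ ∈ K := by
      rintro ⟨_, ⟨g, rfl⟩⟩ a ⟨x, hx, hax⟩
      refine ⟨g * x * g⁻¹, SI_conj hx g, ?_⟩
      show A g * (a : MulAut _) * (A g)⁻¹ = A (g * x * g⁻¹)
      rw [hax, map_mul, map_mul, map_inv]
    have hKc : ∀ a ∈ K, ∀ b ∈ K, IsPGroup 2 (Subgroup.closure {a, b} : Subgroup A.range) := by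
      rintro a ⟨x, hx, hax⟩ b ⟨x', hx', hbx⟩
      have h1 := hcon x hx x' hx'
      refine IsPGroup.of_injective h1
        (((A.range.subtype).comp (Subgroup.closure {a, b}).subtype).codRestrict _ ?_) ?_
      · rintro ⟨g, hg⟩
        have h3 : Subgroup.closure {a, b} ≤ (Subgroup.closure {A x, A x'}).comap A.range.subtype := by
          rw [Subgroup.closure_le]
          rintro c (rfl | hc)
          · show (c : MulAut _) ∈ Subgroup.closure {A x, A x'}
            rw [hax]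
            exact Subgroup.subset_closure (Or.inl rfl)
          · rw [Set.mem_singleton_iff] at hc
            show (c : MulAut _) ∈ Subgroup.closure {A x, A x'}
            rw [hc, hbx]
            exact Subgroup.subset_closure (Or.inr rfl)
        exact h3 hg
      · intro c d hcd
        have h3 := congrArg Subtype.val hcd
        exact Subtype.ext (Subtype.ext h3)
    have h1 := Cfsg.Agent.Involutions.BaerSuzuki.baer_suzuki_set hK hKc
    have h3 : Subgroup.closure K = ⊤ := by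
      rw [eq_top_iff]
      rintro ⟨_, ⟨g, rfl⟩⟩ _
      refine h.of_SI (P := fun g => (⟨A g, ⟨g, rfl⟩⟩ : A.range) ∈ Subgroup.closure K) ?_ ?_ ?_ ?_ g
      · have : (⟨A 1, ⟨1, rfl⟩⟩ : A.range) = 1 := Subtype.ext (map_one A)
        show (⟨A 1, ⟨1, rfl⟩⟩ : A.range) ∈ _
        rw [this]
        exact Subgroup.one_mem _
      · intro a b ha hb
        have : (⟨A (a * b), ⟨a * b, rfl⟩⟩ : A.range) = ⟨A a, ⟨a, rfl⟩⟩ * ⟨A b, ⟨b, rfl⟩⟩ :=
          Subtype.ext (map_mul A a b)
        show (⟨A (a * b), ⟨a * b, rfl⟩⟩ : A.range) ∈ _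
        rw [this]
        exact Subgroup.mul_mem _ ha hb
      · intro a ha
        have : (⟨A a⁻¹, ⟨a⁻¹, rfl⟩⟩ : A.range) = (⟨A a, ⟨a, rfl⟩⟩)⁻¹ := Subtype.ext (map_inv A a)
        show (⟨A a⁻¹, ⟨a⁻¹, rfl⟩⟩ : A.range) ∈ _
        rw [this]
        exact Subgroup.inv_mem _ ha
      · intro x hx
        exact Subgroup.subset_closure ⟨x, hx, rfl⟩
    rw [h3] at h1
    exact h1.of_equiv Subgroup.topEquiv
  obtain ⟨x, hx, x', hx', hxx⟩ := hbs
  set w := x * x' with hw
  set A := act ρ N with hA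
  have hfo : IsOfFinOrder w := isOfFinOrder_of_finite w
  have hwr : rk ρ w ≤ 4 := by
    have h1 := rk_mul_le ρ x x'
    rw [← hw] at h1
    have := hx.2
    have := hx'.2
    omega
  -- an odd prime divisor of the order of `A w`
  have hodd : ∃ r, r.Prime ∧ r ≠ 2 ∧ r ∣ orderOf (A w) := by
    by_contra hcon
    push Not at hcon
    apply hxx
    have h1 : orderOf (A w) = 2 ^ (orderOf (A w)).primeFactorsList.length := by
      refine Nat.eq_prime_pow_of_unique_prime_dvd (orderOf_pos _).ne' fun {p} hp hd => ?_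
      by_contra hp2
      exact hcon p hp hp2 hd
    refine isPGroup_pair (k := (orderOf (A w)).primeFactorsList.length) ?_ ?_ ?_
    · rw [← map_mul, hx.1, map_one]
    · rw [← map_mul, hx'.1, map_one]
    · rw [← map_mul, ← h1, pow_orderOf_eq_one]
  obtain ⟨r, hr, hr2, hrd⟩ := hodd
  have hrd' : r ∣ orderOf w := hrd.trans (orderOf_map_dvd A w)
  have hrG : r ∣ Nat.card G := hrd'.trans (orderOf_dvd_natCard w)
  have hr3 : r ≠ 3 := by
    rintro rfl
    exact h.three hrG
  have hr5 : 5 ≤ r := by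
    have := hr.two_le
    have : r ≠ 4 := by rintro rfl; norm_num at hr
    omega
  obtain ⟨a, m, hm, hom⟩ := Nat.exists_eq_pow_mul_and_not_dvd (orderOf_pos w).ne' r hr.ne_one
  set y := w ^ m with hy
  have hyr : y ^ r ^ a = 1 := by
    rw [hy, ← pow_mul, mul_comm, ← hom, pow_orderOf_eq_one]
  have hAy : A y ≠ 1 := by
    rw [hy, map_pow]
    intro h1
    exact hm (hrd.trans (orderOf_dvd_of_pow_eq_one h1))
  have hry : rk ρ y ≤ 4 := (rk_pow_le ρ w m).trans hwr
  have hy1 : ρ y ≠ 1 := by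
    intro h1
    apply hAy
    have : y = 1 := h.inj (by rw [h1, map_one])
    rw [this, map_one]
  obtain ⟨T, hT4, hT⟩ := exists_reps hQ2 hr hr5 (A y) (a := a) (by rw [← map_pow, hyr, map_one]) hAy
  have hle := hgr.finrank_Cy_le (y := y) (fun m => by
      constructor
      · intro hm; exact hN.conj_mem m hm y
      · intro hm
        have := hN.conj_mem _ hm y⁻¹
        convert this using 1
        group) (Gr.rp ρ N '' T) (by
      rintro _ ⟨q, _, rfl⟩
      exact Gr.rp_mem q) ((Set.toFinite T).image _) (by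
      intro n hn
      obtain ⟨t, ht, j, hj⟩ := hT (QuotientGroup.mk ⟨n, hn⟩)
      refine ⟨_, ⟨t, ht, rfl⟩, j, ?_⟩
      rw [← map_pow, ← Gr.mk_rp t, hA, act_mk, QuotientGroup.eq, Subgroup.mem_subgroupOf] at hj
      exact hj)
  have hTc : (Gr.rp ρ N '' T).ncard ≤ T.ncard := Set.ncard_image_le (Set.toFinite T)
  have hge := le_finrank_Cy ρ (h.card_ne (Subgroup.zpowers y)) hy1
  rw [hd] at hge hdim
  have h16 : 4 * finrank F (Gr.Cy ρ y) ≤ 64 := by
    have h1 : 4 * finrank F (Gr.Cy ρ y) ≤ 4 * (T.ncard * finrank F (Cm ρ N)) :=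
      Nat.mul_le_mul_left _ (hle.trans (Nat.mul_le_mul_right _ hTc))
    have h3 : 4 * (T.ncard * finrank F (Cm ρ N)) = 4 * T.ncard * finrank F (Cm ρ N) := by ring
    rw [h3] at h1
    refine h1.trans ((Nat.mul_le_mul_right _ hT4).trans ?_)
    rw [hk, ← hdim]
  have h17 : 4 * 4 ≤ (8 - rk ρ y) * (8 - rk ρ y) := Nat.mul_le_mul (by omega) (by omega)
  omega

/-- **every normal 2-subgroup acts as `±1`** -/
theorem Hyp.two_core [Finite G] (h : Hyp ρ R R') {P : Subgroup G} (hPn : P.Normal) (hP : IsPGroup 2 P) :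
    P ≤ Sc ρ := by
  by_contra hne
  obtain ⟨N, h1, h2, h3, h4, h5, h6⟩ := h.exists_N hPn hP hne
  exact h.no_ext h1 h2 h3 h4 h5 h6

end main

end Cfsg.Agent.H170.Fl
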