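import Cfsg.Agent.H170.Fl.Frames

/-!
# The group of a frame is of type `QR` (helper170)
-/

set_option autoImplicit false

namespace Cfsg.Agent.H170.Fl

open Module Cfsg.Agent.H167.OP Cfsg.Agent.H170.HL

variable {F : Type*} [Field F] {V : Type*} [AddCommGroup V] [Module F V] {G : Type*} [Group G]
  {ρ : Representation F G V} {f : V →ₗ[F] V →ₗ[F] F} {c : F} {e : K4 → V}

theorem K4.ne_add {i t : K4} (ht : t ≠ 0) : i ≠ i + t := by
  intro h0
  exact ht (by simpa using h0)

theorem K4.exists_fourth (i t : K4) : ∃ j : K4, j ≠ i ∧ j ≠ i + t := by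
  revert i t; decide

/-- squares of monomial elements -/
theorem MM_sq {g : G} (hg : g ∈ MM ρ f e) :
    ∃ s : F, s * s = 1 ∧ (∀ i, ρ (g * g) (e i) = s • e i) ∧
      ∀ w, (∀ i, f (e i) w = 0) → ρ (g * g) w = w := by
  obtain ⟨⟨t, ε, h1, h2, h3⟩, h4⟩ := hg
  have h5 : ∀ i, ρ (g * g) (e i) = (ε i * ε (i + t)) • e i := by
    intro i
    rw [mul_ap, h3, map_smul, h3, K4.add_add, smul_smul]
  have h6 : ∀ i, ε i * ε (i + t) * (ε i * ε (i + t)) = 1 := by
    intro i
    calc ε i * ε (i + t) * (ε i * ε (i + t)) = (ε i * ε i) * (ε (i + t) * ε (i + t)) := by ring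
      _ = 1 := by rw [h1, h1, one_mul]
  have h7 : ∀ i j, ε i * ε (i + t) = ε j * ε (j + t) := by
    intro i j
    by_cases ht : t = 0
    · rw [ht, add_zero, add_zero, h1, h1]
    by_cases hji : j = i
    · rw [hji]
    by_cases hjt : j = i + t
    · rw [hjt, K4.add_add, mul_comm]
    have h8 := h2
    rw [K4.univ_eq ht hji hjt, Finset.prod_insert, Finset.prod_insert, Finset.prod_insert,
      Finset.prod_singleton] at h8
    · have h9 : (ε i * ε (i + t)) * (ε j * ε (j + t)) = 1 := by rw [← h8]; ring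
      calc ε i * ε (i + t) = ε i * ε (i + t) * ((ε j * ε (j + t)) * (ε j * ε (j + t))) := by
            rw [h6, mul_one]
        _ = (ε i * ε (i + t)) * (ε j * ε (j + t)) * (ε j * ε (j + t)) := by ring
        _ = _ := by rw [h9, one_mul]
    · rw [Finset.mem_singleton]
      exact K4.ne_add ht
    · rw [Finset.mem_insert, Finset.mem_singleton, not_or]
      exact ⟨Ne.symm hjt, fun h0 => hji (add_right_cancel h0).symm⟩
    · rw [Finset.mem_insert, Finset.mem_insert, Finset.mem_singleton, not_or, not_or]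
      refine ⟨K4.ne_add ht, Ne.symm hji, fun h0 => hjt ?_⟩
      rw [h0, K4.add_add]
  refine ⟨ε 0 * ε (0 + t), h6 0, fun i => ?_, fun w hw => ?_⟩
  · rw [h5, h7 i 0]
  · rw [mul_ap, h4 w hw, h4 w hw]

namespace Fr

theorem linearIndependent (h : Fr f c e) (hc : c ≠ 0) : LinearIndependent F e := by
  rw [Fintype.linearIndependent_iff]
  intro a ha i
  have h1 := congrArg (f (e i)) ha
  rw [map_zero, map_sum, Finset.sum_eq_single i] at h1
  · rw [map_smul, h.self, smul_eq_mul] at h1
    exact (mul_eq_zero.mp h1).resolve_right hc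
  · intro j _ hj
    rw [map_smul, h.orth i j hj.symm, smul_zero]
  · intro hi
    exact absurd (Finset.mem_univ i) hi

theorem finrank_span (h : Fr f c e) (hc : c ≠ 0) : finrank F (Submodule.span F (Set.range e)) = 4 := by
  rw [finrank_span_eq_card (h.linearIndependent hc)]
  rfl

/-- expansion -/
theorem expand (h : Fr f c e) (hc : c ≠ 0) {v : V} (hv : v ∈ Submodule.span F (Set.range e)) :
    v = ∑ j, (c⁻¹ * f (e j) v) • e j := by
  rw [Submodule.mem_span_range_iff_exists_fun] at hv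
  obtain ⟨a, rfl⟩ := hv
  refine Finset.sum_congr rfl fun i _ => ?_
  congr 1
  rw [map_sum, Finset.sum_eq_single i]
  · rw [map_smul, h.self, smul_eq_mul]
    field_simp
  · intro j _ hj
    rw [map_smul, h.orth i j hj.symm, smul_zero]
  · intro hi
    exact absurd (Finset.mem_univ i) hi

theorem ne_zero (h : Fr f c e) (hc : c ≠ 0) (i : K4) : e i ≠ 0 := by
  intro h0
  have := h.self i
  rw [h0, map_zero] at this
  exact hc this.symm

/-- the sign changes -/
theorem exists_s (h : Fr f c e) (hc : c ≠ 0) (ha : Amb ρ f) {i j : K4} (hij : i ≠ j) :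
    ∃ g ∈ RR ρ f e, IsRR ρ f g (e i) (e j) := by
  obtain ⟨g, hg⟩ := ha.refl (e i) (e j) (h.orth i j hij) (by rw [h.self, h.self]) (by rw [h.self]; exact hc)
  exact ⟨g, Subgroup.subset_closure ⟨_, _, Or.inl ⟨i, j, hij, rfl, rfl⟩, hg⟩, hg⟩

/-- the double transpositions -/
theorem exists_d (h : Fr f c e) (hc : c ≠ 0) (ha : Amb ρ f) {t : K4} (ht : t ≠ 0) (i : K4) :
    ∃ g ∈ RR ρ f e, ρ g (e i) = e (i + t) := by
  obtain ⟨j, hji, hjt⟩ := K4.exists_fourth i t
  have hgen : Gen e (e i - e (i + t)) (e j - e (j + t)) := Or.inr ⟨i, j, t, ht, hji, hjt, rfl, rfl⟩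
  obtain ⟨h1, h2, h3⟩ := h.gen_norm hgen
  have h2c : (2 : F) * c ≠ 0 := mul_ne_zero ha.two hc
  obtain ⟨g, hg⟩ := ha.refl _ _ h1 h2 (by
    rcases h3 with h3 | h3 <;> rw [h3]
    · exact hc
    · exact h2c)
  refine ⟨g, Subgroup.subset_closure ⟨_, _, hgen, hg⟩, ?_⟩
  have hnu : f (e i - e (i + t)) (e i - e (i + t)) = 2 * c := by
    simp only [map_sub, LinearMap.sub_apply, h.self, h.orth _ _ (K4.ne_add ht),
      h.orth _ _ (K4.ne_add ht).symm]
    ring
  have h4 : j + t ≠ i := by
    intro h0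
    apply hjt
    rw [← h0, K4.add_add]
  have hq : (2 : F) / (2 * c) * c = 1 := by
    have := ha.two
    field_simp
  rw [hg, hnu]
  simp only [map_sub, LinearMap.sub_apply, h.self, h.orth _ _ (K4.ne_add ht).symm, h.orth _ _ hji,
    h.orth _ _ h4, sub_zero, mul_zero, zero_smul, hq, one_smul]
  abel

theorem mem_of_mem (h : Fr f c e) (hc : c ≠ 0) (ha : Amb ρ f) {M : Submodule F V}
    (hM : ∀ r ∈ RR ρ f e, ∀ m ∈ M, ρ r m ∈ M) {m : V} (hm : m ∈ M) {i : K4} (hi : f (e i) m ≠ 0) :
    Submodule.span F (Set.range e) ≤ M := by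
  obtain ⟨j, hji, -⟩ := K4.exists_third i i
  obtain ⟨k, hki, hkj⟩ := K4.exists_third i j
  obtain ⟨g, hg, hgr⟩ := h.exists_s hc ha hji.symm
  have h1 : m - ρ g m ∈ M := M.sub_mem hm (hM g hg m hm)
  rw [hgr, h.self, h.self] at h1
  have h2 : m - (m - (2 / c * f (e i) m) • e i - (2 / c * f (e j) m) • e j) =
      (2 / c * f (e i) m) • e i + (2 / c * f (e j) m) • e j := by abel
  rw [h2] at h1
  set w := (2 / c * f (e i) m) • e i + (2 / c * f (e j) m) • e j with hw
  obtain ⟨g', hg', hgr'⟩ := h.exists_s hc ha hki.symm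
  have h3 : w - ρ g' w ∈ M := M.sub_mem h1 (hM g' hg' w h1)
  have h4 : f (e i) w = 2 * f (e i) m := by
    rw [hw, map_add, map_smul, map_smul, h.self, h.orth _ _ hji.symm, smul_zero, add_zero, smul_eq_mul]
    field_simp
  have h5 : f (e k) w = 0 := by
    rw [hw, map_add, map_smul, map_smul, h.orth _ _ hki, h.orth _ _ hkj, smul_zero, smul_zero, add_zero]
  rw [hgr', h.self, h4, h5, mul_zero, zero_smul, sub_zero] at h3
  have h6 : w - (w - (2 / c * (2 * f (e i) m)) • e i) = (2 / c * (2 * f (e i) m)) • e i := by abel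
  rw [h6] at h3
  have h7 : e i ∈ M := by
    have h8 : (2 / c * (2 * f (e i) m)) ≠ 0 :=
      mul_ne_zero (div_ne_zero ha.two hc) (mul_ne_zero ha.two hi)
    have h9 := M.smul_mem (2 / c * (2 * f (e i) m))⁻¹ h3
    rwa [smul_smul, inv_mul_cancel₀ h8, one_smul] at h9
  rw [Submodule.span_le]
  rintro _ ⟨k, rfl⟩
  by_cases hk : k = i
  · rw [hk]; exact h7
  · obtain ⟨d, hd, hde⟩ := h.exists_d hc ha (t := i + k) (by
      intro h0
      apply hk
      have : i + k + k = 0 + k := by rw [h0]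
      rw [K4.add_add, zero_add] at this
      exact this.symm) i
    have h8 := hM d hd (e i) h7
    rw [hde] at h8
    have h9 : i + (i + k) = k := by rw [← add_assoc, K4.add_self, zero_add]
    rwa [h9] at h8

theorem CV_eq (h : Fr f c e) (hc : c ≠ 0) (ha : Amb ρ f) :
    CV ρ (RR ρ f e) = Submodule.span F (Set.range e) := by
  apply le_antisymm
  · refine CV_le fun d hd => ?_
    rintro _ ⟨v, rfl⟩
    obtain ⟨⟨t, ε, h1, h2, h3⟩, h4⟩ := h.RR_le_MM hc ha.two hd
    have h5 : v = ∑ j, (c⁻¹ * f (e j) v) • e j + (v - ∑ j, (c⁻¹ * f (e j) v) • e j) := by abel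
    have h6 := h4 _ (h.sub_orth hc v)
    show ρ d v - v ∈ _
    have h7 : ρ d v - v = ρ d (∑ j, (c⁻¹ * f (e j) v) • e j) - ∑ j, (c⁻¹ * f (e j) v) • e j := by
      conv_lhs => rw [h5, map_add, h6]
      abel
    rw [h7]
    refine Submodule.sub_mem _ ?_ (Submodule.sum_mem _ fun j _ =>
      Submodule.smul_mem _ _ (Submodule.subset_span ⟨j, rfl⟩))
    rw [map_sum]
    refine Submodule.sum_mem _ fun j _ => ?_
    rw [map_smul, h3]
    exact Submodule.smul_mem _ _ (Submodule.smul_mem _ _ (Submodule.subset_span ⟨j + t, rfl⟩))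
  · rw [Submodule.span_le]
    rintro _ ⟨i, rfl⟩
    obtain ⟨j, hji, -⟩ := K4.exists_third i i
    obtain ⟨g, hg, hgr⟩ := h.exists_s hc ha hji.symm
    refine range_le_CV ρ hg (mem_range_of_neg ha.two ρ ?_)
    rw [hgr, h.self, h.self, h.orth _ _ hji, mul_zero, zero_smul, sub_zero, div_mul_cancel₀ _ hc,
      two_smul]
    abel

/-- **the group of a frame is of type `QR`** -/
theorem qr [FiniteDimensional F V] (h : Fr f c e) (hc : c ≠ 0) (ha : Amb ρ f) : QR ρ (RR ρ f e) where
  pg := by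
    rintro ⟨g, hg⟩
    refine ⟨2, Subtype.ext ?_⟩
    show g ^ 2 ^ 2 = 1
    obtain ⟨s, h1, h2, h3⟩ := MM_sq (h.RR_le_MM hc ha.two hg)
    have h4 : g ^ 2 ^ 2 = g * g * (g * g) := by
      show g ^ (2 * 2) = _
      rw [pow_mul, pow_two, pow_two]
    rw [h4]
    apply ha.inj
    rw [map_one]
    refine h.ext hc (fun i => ?_) (fun w hw => ?_)
    · rw [mul_ap, h2, map_smul, h2, smul_smul, h1, one_smul]
      rfl
    · rw [mul_ap, h3 w hw, h3 w hw]
      rfl
  dim := by rw [h.CV_eq hc ha, h.finrank_span hc]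
  irr := by
    intro M hM hinv
    rw [h.CV_eq hc ha] at hM ⊢
    by_cases h0 : M = ⊥
    · exact Or.inl h0
    · right
      obtain ⟨m, hm, hm0⟩ := (Submodule.ne_bot_iff _).mp h0
      have h1 : ∃ i, f (e i) m ≠ 0 := by
        by_contra hcon
        push Not at hcon
        apply hm0
        rw [h.expand hc (hM hm)]
        exact Finset.sum_eq_zero fun i _ => by rw [hcon, mul_zero, zero_smul]
      obtain ⟨i, hi⟩ := h1
      exact le_antisymm hM (h.mem_of_mem hc ha hinv hm hi)
  sq := by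
    intro a haR
    obtain ⟨s, h1, h2, -⟩ := MM_sq (h.RR_le_MM hc ha.two haR)
    have h3 : ∀ u ∈ CV ρ (RR ρ f e), ρ (a * a) u = s • u := by
      intro u hu
      rw [h.CV_eq hc ha] at hu
      rw [h.expand hc hu, map_sum, Finset.smul_sum]
      refine Finset.sum_congr rfl fun i _ => ?_
      rw [map_smul, h2, smul_comm]
    rcases mul_self_eq_one_iff.mp h1 with rfl | rfl
    · left
      intro u hu
      rw [h3 u hu, one_smul]
    · right
      intro u hu
      rw [h3 u hu, neg_smul, one_smul]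
  gen := by
    refine ⟨S0 ρ f e, rfl, ?_⟩
    rintro x ⟨u, v, hgen, hx⟩
    obtain ⟨h1, h2, h3⟩ := h.gen_norm hgen
    have h4 : f u u ≠ 0 := by
      rcases h3 with h3 | h3 <;> rw [h3]
      · exact hc
      · exact mul_ne_zero ha.two hc
    exact ⟨hx.two ha.inj h4 (by rw [← h2]; exact h4) h1 (by rw [ha.symm]; exact h1), hx.rk_le⟩
  scal := by
    intro φ hφ
    -- `φ (e i)` is a multiple of `e i`
    have h1 : ∀ i, ∃ a : F, φ (e i) = a • e i := by
      intro i
      obtain ⟨j, hji, -⟩ := K4.exists_third i i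
      obtain ⟨k, hki, hkj⟩ := K4.exists_third i j
      have key : ∀ {j : K4}, j ≠ i → (2 : F) • φ (e i) =
          (2 / c * f (e i) (φ (e i))) • e i + (2 / c * f (e j) (φ (e i))) • e j := by
        intro j hji
        obtain ⟨g, hg, hgr⟩ := h.exists_s hc ha hji.symm
        have h2 := hφ g hg (e i)
        have h3 : ρ g (e i) = -e i := by
          rw [hgr, h.self, h.self, h.orth _ _ hji, mul_zero, zero_smul, sub_zero, div_mul_cancel₀ _ hc,
            two_smul]
          abel
        rw [h3, map_neg, hgr, h.self, h.self] at h2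
        rw [two_smul]
        have h4 : φ (e i) + φ (e i) = φ (e i) - -φ (e i) := by abel
        rw [h4, h2]
        abel
      have h2 := key hji
      have h3 := key hki
      have h4 : (2 / c * f (e j) (φ (e i))) • e j = (2 / c * f (e k) (φ (e i))) • e k := by
        have := h2.symm.trans h3
        exact add_left_cancel this
      have h5 : 2 / c * f (e j) (φ (e i)) = 0 := by
        have h6 := congrArg (f (e j)) h4
        rw [map_smul, map_smul, h.self, h.orth _ _ hkj.symm, smul_zero, smul_eq_mul] at h6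
        exact (mul_eq_zero.mp h6).resolve_right hc
      rw [h5, zero_smul, add_zero] at h2
      refine ⟨(2 : F)⁻¹ * (2 / c * f (e i) (φ (e i))), ?_⟩
      rw [mul_smul, ← h2, smul_smul, inv_mul_cancel₀ ha.two, one_smul]
    choose a ha' using h1
    have h2 : ∀ i, a i = a 0 := by
      intro i
      by_cases hi : i = 0
      · rw [hi]
      · obtain ⟨g, hg, hge⟩ := h.exists_d hc ha hi 0
        have h3 := hφ g hg (e 0)
        rw [hge, zero_add, ha', ha', map_smul, hge, zero_add] at h3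
        have h4 : (a i - a 0) • e i = 0 := by rw [sub_smul, h3, sub_self]
        exact sub_eq_zero.mp ((smul_eq_zero.mp h4).resolve_right (h.ne_zero hc i))
    refine ⟨a 0, fun u hu => ?_⟩
    rw [h.CV_eq hc ha] at hu
    rw [h.expand hc hu, map_sum, Finset.smul_sum]
    refine Finset.sum_congr rfl fun i _ => ?_
    rw [map_smul, ha', h2, smul_comm]

end Fr

end Cfsg.Agent.H170.Fl
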