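import Cfsg.Agent.H170.Fl.Base

/-!
# The groups `2^{1+4}_+` of a frame (helper170)

A frame: four pairwise orthogonal vectors `e i` (`i` in the four-group `K4`) of the same norm `c ≠ 0`. `RR e`: the group
generated by the products of two reflections in `e i`, `e j`, and in `e i - e (i+t)`, `e j - e (j+t)`.
-/

set_option autoImplicit false

namespace Cfsg.Agent.H170.Fl

open Module Cfsg.Agent.H167.OP Cfsg.Agent.H170.HL

variable {F : Type*} [Field F] {V : Type*} [AddCommGroup V] [Module F V] {G : Type*} [Group G]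

/-- the index set -/
abbrev K4 : Type := ZMod 2 × ZMod 2

theorem K4.add_self (t : K4) : t + t = 0 := by revert t; decide

theorem K4.add_add (i t : K4) : i + t + t = i := by rw [add_assoc, K4.add_self, add_zero]

/-- the product of the reflections in two orthogonal vectors -/
def IsRR (ρ : Representation F G V) (f : V →ₗ[F] V →ₗ[F] F) (g : G) (u v : V) : Prop :=
  ∀ w, ρ g w = w - (2 / f u u * f u w) • u - (2 / f v v * f v w) • v

/-- the ambient group contains the products of two reflections of the same norm -/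
structure Amb (ρ : Representation F G V) (f : V →ₗ[F] V →ₗ[F] F) : Prop where
  inj : Function.Injective ρ
  two : (2 : F) ≠ 0
  inv : ∀ g u v, f (ρ g u) (ρ g v) = f u v
  symm : ∀ u v, f u v = f v u
  nd : ∀ x, (∀ y, f y x = 0) → x = 0
  refl : ∀ u v, f u v = 0 → f u u = f v v → f u u ≠ 0 → ∃ g : G, IsRR ρ f g u v

/-- a frame -/
structure Fr (f : V →ₗ[F] V →ₗ[F] F) (c : F) (e : K4 → V) : Prop where
  self : ∀ i, f (e i) (e i) = c
  orth : ∀ i j, i ≠ j → f (e i) (e j) = 0

/-- the pairs of vectors of the generators -/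
def Gen (e : K4 → V) (u v : V) : Prop :=
  (∃ i j, i ≠ j ∧ u = e i ∧ v = e j) ∨
    ∃ i j t, t ≠ 0 ∧ j ≠ i ∧ j ≠ i + t ∧ u = e i - e (i + t) ∧ v = e j - e (j + t)

/-- the generators -/
def S0 (ρ : Representation F G V) (f : V →ₗ[F] V →ₗ[F] F) (e : K4 → V) : Set G :=
  {g | ∃ u v, Gen e u v ∧ IsRR ρ f g u v}

/-- the group of the frame -/
def RR (ρ : Representation F G V) (f : V →ₗ[F] V →ₗ[F] F) (e : K4 → V) : Subgroup G :=
  Subgroup.closure (S0 ρ f e)

variable {ρ : Representation F G V} {f : V →ₗ[F] V →ₗ[F] F} {c : F} {e : K4 → V}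

namespace Fr

theorem apply_eq (h : Fr f c e) (i j : K4) : f (e i) (e j) = if i = j then c else 0 := by
  split_ifs with hij
  · rw [hij, h.self]
  · exact h.orth i j hij

/-- the orthogonal complement -/
theorem sub_orth (h : Fr f c e) (hc : c ≠ 0) (v : V) (i : K4) :
    f (e i) (v - ∑ j, (c⁻¹ * f (e j) v) • e j) = 0 := by
  rw [map_sub, map_sum, Finset.sum_eq_single i]
  · rw [map_smul, h.self, smul_eq_mul]
    field_simp
    ring
  · intro j _ hj
    rw [map_smul, h.orth i j hj.symm, smul_zero]
  · intro hi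
    exact absurd (Finset.mem_univ i) hi

/-- two maps which agree on the frame and on its complement are equal -/
theorem ext (h : Fr f c e) (hc : c ≠ 0) {A B : End F V} (h1 : ∀ i, A (e i) = B (e i))
    (h2 : ∀ w, (∀ i, f (e i) w = 0) → A w = B w) : A = B := by
  apply LinearMap.ext
  intro v
  have h3 : v = ∑ j, (c⁻¹ * f (e j) v) • e j + (v - ∑ j, (c⁻¹ * f (e j) v) • e j) := by abel
  rw [h3, map_add, map_add, map_sum, map_sum, h2 _ (h.sub_orth hc v)]
  congr 1
  refine Finset.sum_congr rfl fun j _ => ?_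
  rw [map_smul, map_smul, h1]

theorem gen_norm (h : Fr f c e) {u v : V} (hg : Gen e u v) :
    f u v = 0 ∧ f u u = f v v ∧ (f u u = c ∨ f u u = 2 * c) := by
  rcases hg with ⟨i, j, hij, rfl, rfl⟩ | ⟨i, j, t, ht, hji, hjt, rfl, rfl⟩
  · exact ⟨h.orth i j hij, by rw [h.self, h.self], Or.inl (h.self i)⟩
  · have h1 : i ≠ i + t := by
      intro h0
      exact ht (by simpa using h0)
    have h2 : j ≠ j + t := by
      intro h0
      exact ht (by simpa using h0)
    have h3 : i ≠ j + t := by
      intro h0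
      apply hjt
      rw [h0, K4.add_add]
    have h4 : i + t ≠ j + t := fun h0 => hji (add_right_cancel h0).symm
    have e1 := h.orth _ _ h1
    have e2 := h.orth _ _ h1.symm
    have e3 := h.orth _ _ h2
    have e4 := h.orth _ _ h2.symm
    have e5 := h.orth _ _ hji.symm
    have e6 := h.orth _ _ h3
    have e7 := h.orth _ _ hjt.symm
    have e8 := h.orth _ _ h4
    refine ⟨?_, ?_, Or.inr ?_⟩
    · simp only [map_sub, LinearMap.sub_apply, e5, e6, e7, e8, sub_self]
    · simp only [map_sub, LinearMap.sub_apply, e1, e2, e3, e4, h.self]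
    · simp only [map_sub, LinearMap.sub_apply, e1, e2, h.self]
      ring

end Fr

theorem IsRR.two (hρ : Function.Injective ρ) {g : G} {u v : V}
    (hu : f u u ≠ 0) (hv : f v v ≠ 0) (huv : f u v = 0) (hvu : f v u = 0) (h : IsRR ρ f g u v) :
    g * g = 1 := by
  apply hρ
  rw [map_one]
  apply LinearMap.ext
  intro w
  rw [mul_ap, h w]
  show ρ g (w - (2 / f u u * f u w) • u - (2 / f v v * f v w) • v) = w
  rw [h]
  have h1 : f u (w - (2 / f u u * f u w) • u - (2 / f v v * f v w) • v) = -f u w := by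
    rw [map_sub, map_sub, map_smul, map_smul, huv, smul_zero, smul_eq_mul]
    field_simp
    ring
  have h3 : f v (w - (2 / f u u * f u w) • u - (2 / f v v * f v w) • v) = -f v w := by
    rw [map_sub, map_sub, map_smul, map_smul, hvu, smul_zero, smul_eq_mul]
    field_simp
    ring
  rw [h1, h3, mul_neg, mul_neg, neg_smul, neg_smul]
  abel

theorem IsRR.rk_le [FiniteDimensional F V] {g : G} {u v : V} (h : IsRR ρ f g u v) : rk ρ g ≤ 2 := by
  classical
  have h1 : LinearMap.range (ρ g - 1) ≤ Submodule.span F (({u, v} : Finset V) : Set V) := by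
    rintro _ ⟨w, rfl⟩
    have h2 : (ρ g - 1) w = -((2 / f u u * f u w) • u) + -((2 / f v v * f v w) • v) := by
      show ρ g w - w = _
      rw [h]
      abel
    rw [h2]
    refine Submodule.add_mem _ (Submodule.neg_mem _ (Submodule.smul_mem _ _ (Submodule.subset_span ?_)))
      (Submodule.neg_mem _ (Submodule.smul_mem _ _ (Submodule.subset_span ?_)))
    · simp
    · simp
  refine (Submodule.finrank_mono h1).trans ((finrank_span_finset_le_card _).trans ?_)
  exact Finset.card_le_two

theorem IsRR.fix {g : G} {u v w : V} (h : IsRR ρ f g u v) (hu : f u w = 0) (hv : f v w = 0) :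
    ρ g w = w := by
  rw [h, hu, hv, mul_zero, mul_zero, zero_smul, zero_smul, sub_zero, sub_zero]

variable (ρ f e) in
/-- monomial elements (of sign one) supported by the frame -/
def MM : Subgroup G where
  carrier := {g | (∃ (t : K4) (ε : K4 → F), (∀ i, ε i * ε i = 1) ∧ ∏ i, ε i = 1 ∧
    ∀ i, ρ g (e i) = ε i • e (i + t)) ∧ ∀ w, (∀ i, f (e i) w = 0) → ρ g w = w}
  one_mem' := ⟨⟨0, fun _ => 1, fun _ => one_mul 1, Finset.prod_const_one, fun i => by
    rw [one_ap, one_smul, add_zero]⟩, fun w _ => one_ap ρ w⟩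
  mul_mem' := by
    rintro g h ⟨⟨t, ε, h1, h2, h3⟩, h4⟩ ⟨⟨s, δ, k1, k2, k3⟩, k4⟩
    refine ⟨⟨s + t, fun i => δ i * ε (i + s), fun i => ?_, ?_, fun i => ?_⟩, fun w hw => ?_⟩
    · calc δ i * ε (i + s) * (δ i * ε (i + s)) = (δ i * δ i) * (ε (i + s) * ε (i + s)) := by ring
        _ = 1 := by rw [k1, h1, one_mul]
    · rw [Finset.prod_mul_distrib, k2, one_mul, ← h2]
      exact Fintype.prod_equiv (Equiv.addRight s) _ _ fun i => rfl
    · rw [mul_ap, k3, map_smul, h3, smul_smul, add_assoc]
    · rw [mul_ap, k4 w hw, h4 w hw]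
  inv_mem' := by
    rintro g ⟨⟨t, ε, h1, h2, h3⟩, h4⟩
    refine ⟨⟨t, fun i => ε (i + t), fun i => h1 _, ?_, fun i => ?_⟩, fun w hw => ?_⟩
    · rw [← h2]
      exact Fintype.prod_equiv (Equiv.addRight t) _ _ fun i => rfl
    · have h5 := h3 (i + t)
      rw [K4.add_add] at h5
      have h6 : ρ g⁻¹ (ρ g (e (i + t))) = e (i + t) := inv_ap ρ g _
      rw [h5, map_smul] at h6
      have h7 := congrArg (fun x => ε (i + t) • x) h6
      simp only [smul_smul, h1, one_smul] at h7
      exact h7
    · conv_lhs => rw [← h4 w hw, inv_ap]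

theorem K4.univ_eq {i j t : K4} (ht : t ≠ 0) (hji : j ≠ i) (hjt : j ≠ i + t) :
    (Finset.univ : Finset K4) = {i, i + t, j, j + t} := by
  revert i j t; decide

theorem K4.cases {i j t : K4} (ht : t ≠ 0) (hji : j ≠ i) (hjt : j ≠ i + t) (k : K4) :
    k = i ∨ k = i + t ∨ k = j ∨ k = j + t := by
  have h1 := Finset.mem_univ k
  rw [K4.univ_eq ht hji hjt] at h1
  simpa using h1

theorem K4.exists_third (i j : K4) : ∃ k : K4, k ≠ i ∧ k ≠ j := by
  revert i j; decide

theorem K4.card_two {i j : K4} (hij : i ≠ j) :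
    (Finset.univ.filter fun k : K4 => k = i ∨ k = j).card = 2 := by
  revert i j; decide

theorem Fr.S0_le_MM (h : Fr f c e) (hc : c ≠ 0) (h2 : (2 : F) ≠ 0) : S0 ρ f e ⊆ MM ρ f e := by
  rintro g ⟨u, v, hg, hgr⟩
  rcases hg with ⟨i, j, hij, rfl, rfl⟩ | ⟨i, j, t, ht, hji, hjt, rfl, rfl⟩
  · refine ⟨⟨0, fun k => if k = i ∨ k = j then -1 else 1, fun k => ?_, ?_, fun k => ?_⟩, fun w hw => ?_⟩
    · show (if k = i ∨ k = j then (-1 : F) else 1) * (if k = i ∨ k = j then (-1 : F) else 1) = 1
      split_ifs <;> ring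
    · rw [Finset.prod_ite, Finset.prod_const_one, mul_one, Finset.prod_const, K4.card_two hij]
      ring
    · show ρ g (e k) = (if k = i ∨ k = j then (-1 : F) else 1) • e (k + 0)
      rw [hgr, add_zero, h.self i, h.self j, h.apply_eq i k, h.apply_eq j k]
      by_cases hki : i = k
      · subst hki
        rw [if_pos rfl, if_neg hij.symm, if_pos (Or.inl rfl), mul_zero, zero_smul, sub_zero,
          div_mul_cancel₀ _ hc, two_smul, neg_smul, one_smul]
        abel
      · by_cases hkj : j = k
        · subst hkj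
          rw [if_neg hki, if_pos rfl, if_pos (Or.inr rfl), mul_zero, zero_smul, sub_zero,
            div_mul_cancel₀ _ hc, two_smul, neg_smul, one_smul]
          abel
        · rw [if_neg hki, if_neg hkj, if_neg (by
            rintro (h0 | h0)
            · exact hki h0.symm
            · exact hkj h0.symm)]
          simp
    · exact hgr.fix (hw i) (hw j)
  · refine ⟨⟨t, fun _ => 1, fun _ => one_mul 1, Finset.prod_const_one, fun k => ?_⟩, fun w hw => ?_⟩
    · have hn := h.gen_norm (u := e i - e (i + t)) (v := e j - e (j + t))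
        (Or.inr ⟨i, j, t, ht, hji, hjt, rfl, rfl⟩)
      have h1 : i ≠ i + t := by
        intro h0
        exact ht (by simpa using h0)
      have h3 : j ≠ j + t := by
        intro h0
        exact ht (by simpa using h0)
      have h4 : i ≠ j + t := by
        intro h0
        apply hjt
        rw [h0, K4.add_add]
      have h5 : i + t ≠ j + t := fun h0 => hji (add_right_cancel h0).symm
      have h2c : (2 : F) * c ≠ 0 := mul_ne_zero h2 hc
      have hnu : f (e i - e (i + t)) (e i - e (i + t)) = 2 * c := by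
        simp only [map_sub, LinearMap.sub_apply, h.self, h.orth _ _ h1, h.orth _ _ h1.symm]
        ring
      have hnv : f (e j - e (j + t)) (e j - e (j + t)) = 2 * c := by
        simp only [map_sub, LinearMap.sub_apply, h.self, h.orth _ _ h3, h.orth _ _ h3.symm]
        ring
      rw [hgr, hnu, hnv, one_smul]
      have hq : (2 : F) / (2 * c) * c = 1 := by field_simp
      rcases K4.cases ht hji hjt k with rfl | rfl | rfl | rfl
      · simp only [map_sub, LinearMap.sub_apply, h.self, h.orth _ _ h1.symm, h.orth _ _ hji,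
          h.orth _ _ h4.symm, sub_zero, mul_zero, zero_smul, hq, one_smul]
        abel
      · rw [K4.add_add]
        simp only [map_sub, LinearMap.sub_apply, h.self, h.orth _ _ h1, h.orth _ _ hjt,
          h.orth _ _ h5.symm, sub_zero, zero_sub, mul_zero, mul_neg, zero_smul, hq, neg_smul, one_smul]
        abel
      · simp only [map_sub, LinearMap.sub_apply, h.self, h.orth _ _ h3.symm, h.orth _ _ hji.symm,
          h.orth _ _ hjt.symm, sub_zero, mul_zero, zero_smul, hq, one_smul]
        abel
      · rw [K4.add_add]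
        simp only [map_sub, LinearMap.sub_apply, h.self, h.orth _ _ h3, h.orth _ _ h4,
          h.orth _ _ h5, sub_zero, zero_sub, mul_zero, mul_neg, zero_smul, hq, neg_smul, one_smul]
        abel
    · refine hgr.fix ?_ ?_
      · rw [map_sub, LinearMap.sub_apply, hw, hw, sub_zero]
      · rw [map_sub, LinearMap.sub_apply, hw, hw, sub_zero]

theorem Fr.RR_le_MM (h : Fr f c e) (hc : c ≠ 0) (h2 : (2 : F) ≠ 0) : RR ρ f e ≤ MM ρ f e :=
  (Subgroup.closure_le _).mpr (h.S0_le_MM hc h2)

end Cfsg.Agent.H170.Fl
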