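import Cfsg.Agent.H170.Fl.TwoNormal

/-!
# The grading of `End V` given by a group of class two (helper170)

`N` a finite group acting on `V` (order prime to the characteristic), commutators act as `±1`, the centre acts as `±1`;
`X` the subgroup acting as `±1`. Then `End V` is the direct sum of the spaces `ρ(n) C(N)`, `n ∈ N/X`.
-/

set_option autoImplicit false

namespace Cfsg.Agent.H170.Fl

open Module Cfsg.Agent.H167.OP Cfsg.Agent.H170.HL

variable {F : Type*} [Field F] {V : Type*} [AddCommGroup V] [Module F V] {G : Type*} [Group G]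

/-- `N` is of class two and all its central elements and commutators act as `±1` -/
structure Gr (ρ : Representation F G V) (N : Subgroup G) : Prop where
  inj : Function.Injective ρ
  two : (2 : F) ≠ 0
  card : (Nat.card N : F) ≠ 0
  comm : ∀ a ∈ N, ∀ b ∈ N, a * b * a⁻¹ * b⁻¹ ∈ Sc ρ
  cen : ∀ a ∈ N, (∀ b ∈ N, a * b = b * a) → a ∈ Sc ρ

section sign

variable (ρ : Representation F G V)

open Classical in
/-- the sign of an element of `Sc ρ` -/
noncomputable def sg (g : G) : F := if ∀ v, ρ g v = v then 1 else -1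

variable {ρ}

theorem sg_smul {g : G} (hg : g ∈ Sc ρ) (v : V) : ρ g v = sg ρ g • v := by
  unfold sg
  by_cases h : ∀ v, ρ g v = v
  · rw [if_pos h, one_smul, h]
  · rw [if_neg h, neg_smul, one_smul]
    exact (hg.resolve_left h) v

theorem sg_unique [Nontrivial V] {g : G} (hg : g ∈ Sc ρ) {c : F} (hc : ∀ v, ρ g v = c • v) :
    sg ρ g = c := by
  obtain ⟨v, hv⟩ := exists_ne (0 : V)
  have h1 : (sg ρ g - c) • v = 0 := by rw [sub_smul, ← sg_smul hg, ← hc, sub_self]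
  exact sub_eq_zero.mp ((smul_eq_zero.mp h1).resolve_right hv)

theorem sg_mul [Nontrivial V] {g h : G} (hg : g ∈ Sc ρ) (hh : h ∈ Sc ρ) :
    sg ρ (g * h) = sg ρ g * sg ρ h := by
  refine sg_unique ((Sc ρ).mul_mem hg hh) fun v => ?_
  rw [mul_ap, sg_smul hh, map_smul, sg_smul hg, smul_smul, mul_comm]

theorem sg_one : sg ρ 1 = 1 := by
  unfold sg
  rw [if_pos fun v => one_ap ρ v]

theorem sg_sq (g : G) : sg ρ g * sg ρ g = 1 := by
  unfold sg
  split_ifs <;> ring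

theorem sg_inv (g : G) (hg : g ∈ Sc ρ) [Nontrivial V] : sg ρ g⁻¹ = sg ρ g := by
  have h1 : sg ρ g * sg ρ g⁻¹ = 1 := by
    rw [← sg_mul hg ((Sc ρ).inv_mem hg), mul_inv_cancel, sg_one]
  have h2 := sg_sq (ρ := ρ) g
  have h0 : sg ρ g ≠ 0 := by
    intro h0
    rw [h0, zero_mul] at h1
    exact zero_ne_one h1
  exact mul_left_cancel₀ h0 (h1.trans h2.symm)

theorem eq_one_of_sg (hρ : Function.Injective ρ) (h2 : (2 : F) ≠ 0) {g : G} (h : sg ρ g = 1) : g = 1 := by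
  unfold sg at h
  by_cases h1 : ∀ v, ρ g v = v
  · apply hρ
    rw [map_one]
    exact LinearMap.ext h1
  · rw [if_neg h1] at h
    exfalso
    apply h2
    have : (1 : F) + 1 = 0 := by nth_rw 1 [← h]; ring
    rw [← one_add_one_eq_two, this]

variable (ρ) in
/-- the commutator sign -/
noncomputable def ep (a b : G) : F := sg ρ (a * b * a⁻¹ * b⁻¹)

theorem ep_sq (a b : G) : ep ρ a b * ep ρ a b = 1 := sg_sq _

theorem ep_ne (a b : G) : ep ρ a b ≠ 0 := fun h => by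
  have := ep_sq (ρ := ρ) a b
  rw [h, zero_mul] at this
  exact zero_ne_one this

end sign

namespace Gr

variable {ρ : Representation F G V} {N : Subgroup G}

theorem ep_mul_left [Nontrivial V] (h : Gr ρ N) {a b c : G} (ha : a ∈ N) (hb : b ∈ N) (hc : c ∈ N) :
    ep ρ (a * b) c = ep ρ a c * ep ρ b c := by
  unfold ep
  rw [← sg_mul (h.comm a ha c hc) (h.comm b hb c hc)]
  congr 1
  have h1 : a * b * c * (a * b)⁻¹ * c⁻¹ = a * (b * c * b⁻¹ * c⁻¹) * (c * a⁻¹ * c⁻¹) := by group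
  rw [h1, Sc_comm h.inj (h.comm b hb c hc) a]
  have h2 := Sc_comm h.inj (h.comm b hb c hc) (a * c * a⁻¹ * c⁻¹)
  rw [h2]
  group

theorem ep_symm [Nontrivial V] (h : Gr ρ N) {a b : G} (ha : a ∈ N) (hb : b ∈ N) :
    ep ρ a b = ep ρ b a := by
  unfold ep
  rw [← sg_inv _ (h.comm b hb a ha)]
  congr 1
  group

theorem ep_mul_right [Nontrivial V] (h : Gr ρ N) {a b c : G} (ha : a ∈ N) (hb : b ∈ N) (hc : c ∈ N) :
    ep ρ a (b * c) = ep ρ a b * ep ρ a c := by
  rw [h.ep_symm ha (N.mul_mem hb hc), h.ep_mul_left hb hc ha, h.ep_symm hb ha, h.ep_symm hc ha]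

theorem ep_Sc (h : Gr ρ N) (a : G) {s : G} (hs : s ∈ Sc ρ) : ep ρ a s = 1 := by
  unfold ep
  rw [Sc_comm h.inj hs a, mul_inv_cancel_right, mul_inv_cancel, sg_one]

theorem ep_Sc' (h : Gr ρ N) (a : G) {s : G} (hs : s ∈ Sc ρ) : ep ρ s a = 1 := by
  unfold ep
  rw [← Sc_comm h.inj hs a, mul_inv_cancel_right, mul_inv_cancel, sg_one]

theorem ep_one_right (a : G) : ep ρ a 1 = 1 := by
  unfold ep; simp [sg_one]

theorem ep_one_left (a : G) : ep ρ 1 a = 1 := by
  unfold ep; simp [sg_one]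

theorem comm_of_ep (h : Gr ρ N) {a b : G} (he : ep ρ a b = 1) : a * b = b * a := by
  have h1 := eq_one_of_sg h.inj h.two he
  have h2 : a * b = (a * b * a⁻¹ * b⁻¹) * (b * a) := by group
  rw [h2, h1, one_mul]

theorem conj_ap (h : Gr ρ N) {a b : G} (ha : a ∈ N) (hb : b ∈ N) :
    ρ a * ρ b * ρ a⁻¹ = ep ρ a b • ρ b := by
  apply LinearMap.ext
  intro v
  rw [← map_mul, ← map_mul]
  have h1 : a * b * a⁻¹ = (a * b * a⁻¹ * b⁻¹) * b := by group
  rw [h1, mul_ap, sg_smul (h.comm a ha b hb)]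
  rfl

end Gr

/-- the commutant -/
def Cm (ρ : Representation F G V) (N : Subgroup G) : Submodule F (End F V) where
  carrier := {A | ∀ b ∈ N, ρ b * A = A * ρ b}
  zero_mem' := fun b _ => by rw [mul_zero, zero_mul]
  add_mem' := fun {A B} hA hB b hb => by rw [mul_add, add_mul, hA b hb, hB b hb]
  smul_mem' := fun c A hA b hb => by rw [mul_smul_comm, smul_mul_assoc, hA b hb]

theorem mem_Cm {ρ : Representation F G V} {N : Subgroup G} {A : End F V} :
    A ∈ Cm ρ N ↔ ∀ b ∈ N, ρ b * A = A * ρ b := Iff.rfl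

theorem rho_mul_inv (ρ : Representation F G V) (g : G) : ρ g * ρ g⁻¹ = 1 := by
  rw [← map_mul, mul_inv_cancel, map_one]

theorem rho_inv_mul (ρ : Representation F G V) (g : G) : ρ g⁻¹ * ρ g = 1 := by
  rw [← map_mul, inv_mul_cancel, map_one]

/-- the conjugate of an operator -/
theorem Cm_conj {ρ : Representation F G V} {N : Subgroup G} {A : End F V} (hA : A ∈ Cm ρ N) {b : G}
    (hb : b ∈ N) : ρ b * A * ρ b⁻¹ = A := by
  rw [hA b hb, mul_assoc, rho_mul_inv, mul_one]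

section proj

variable (ρ : Representation F G V) (N : Subgroup G) [Fintype N]

/-- the projection to `ρ n · C(N)` -/
noncomputable def PP (n : G) : End F V →ₗ[F] End F V :=
  (Nat.card N : F)⁻¹ • ∑ m : N, ep ρ m n •
    (LinearMap.mulLeft F (ρ (m : G)) ∘ₗ LinearMap.mulRight F (ρ (m : G)⁻¹))

theorem PP_apply (n : G) (A : End F V) :
    PP ρ N n A = (Nat.card N : F)⁻¹ • ∑ m : N, ep ρ m n • (ρ (m : G) * A * ρ (m : G)⁻¹) := by
  unfold PP
  rw [LinearMap.smul_apply, LinearMap.sum_apply]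
  rfl

end proj

namespace Gr

variable {ρ : Representation F G V} {N : Subgroup G}

section

variable [Fintype N]

/-- `ρ b P(n) A ρ b⁻¹ = ε(b,n) P(n) A` -/
theorem conj_PP [Nontrivial V] (h : Gr ρ N) {n b : G} (hn : n ∈ N) (hb : b ∈ N) (A : End F V) :
    ρ b * PP ρ N n A * ρ b⁻¹ = ep ρ b n • PP ρ N n A := by
  rw [PP_apply, mul_smul_comm, smul_mul_assoc, Finset.mul_sum, Finset.sum_mul, smul_comm]
  congr 1
  rw [Finset.smul_sum]
  refine Fintype.sum_equiv (Equiv.mulLeft (⟨b, hb⟩ : N)) _ _ fun m => ?_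
  rw [Equiv.coe_mulLeft]
  show _ = ep ρ b n • (ep ρ (b * m) n • (ρ (b * m) * A * ρ (b * (m : G))⁻¹))
  rw [h.ep_mul_left hb m.2 hn, smul_smul, ← mul_assoc, ep_sq, one_mul, mul_smul_comm, smul_mul_assoc]
  rw [mul_inv_rev, map_mul, map_mul]
  simp only [mul_assoc]

/-- `ρ n⁻¹ P(n) A` commutes with `N` -/
theorem inv_PP_mem [Nontrivial V] (h : Gr ρ N) {n : G} (hn : n ∈ N) (A : End F V) :
    ρ n⁻¹ * PP ρ N n A ∈ Cm ρ N := by
  intro b hb
  have h1 := h.conj_PP hn hb A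
  have h2 := h.conj_ap (N.inv_mem hb) hn
  -- `ρ b⁻¹ ρ n ρ b = ε ρ n`
  have h3 : ρ b * ρ n⁻¹ = ep ρ b n • (ρ n⁻¹ * ρ b) := by
    have h4 : ρ (b * n⁻¹ * b⁻¹) = ep ρ b n • ρ n⁻¹ := by
      have h5 := h.conj_ap hb (N.inv_mem hn)
      rw [← map_mul, ← map_mul] at h5
      rw [h5]
      congr 1
      have h6 : ep ρ b (n * n⁻¹) = ep ρ b n * ep ρ b n⁻¹ := h.ep_mul_right hb hn (N.inv_mem hn)
      rw [mul_inv_cancel, ep_one_right] at h6
      have h7 := ep_sq (ρ := ρ) b n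
      exact mul_left_cancel₀ (ep_ne b n) (h6.symm.trans h7.symm)
    have h5 : b * n⁻¹ = (b * n⁻¹ * b⁻¹) * b := by group
    rw [← map_mul, h5, map_mul, h4, smul_mul_assoc]
  have h4 : ρ b * PP ρ N n A = ep ρ b n • (PP ρ N n A * ρ b) := by
    have h5 : ρ b * PP ρ N n A * ρ b⁻¹ * ρ b = ep ρ b n • (PP ρ N n A * ρ b) := by
      rw [h1, smul_mul_assoc]
    rw [mul_assoc, rho_inv_mul, mul_one] at h5
    exact h5
  rw [← mul_assoc, h3, smul_mul_assoc, mul_assoc, h4, mul_smul_comm, smul_smul, ep_sq, one_smul,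
    mul_assoc]

/-- the value on `ρ n' B` -/
theorem PP_rho_mul [Nontrivial V] (h : Gr ρ N) {n n' : G} (hn : n ∈ N) (hn' : n' ∈ N) {B : End F V}
    (hB : B ∈ Cm ρ N) :
    PP ρ N n (ρ n' * B) = ((Nat.card N : F)⁻¹ * ∑ m : N, ep ρ m (n⁻¹ * n')) • (ρ n' * B) := by
  rw [PP_apply, mul_smul, Finset.sum_smul]
  congr 1
  refine Finset.sum_congr rfl fun m _ => ?_
  have h1 : ρ (m : G) * (ρ n' * B) * ρ (m : G)⁻¹ = ep ρ m n' • (ρ n' * B) := by
    have h2 : ρ (m : G) * (ρ n' * B) * ρ (m : G)⁻¹ =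
        (ρ (m : G) * ρ n' * ρ (m : G)⁻¹) * (ρ (m : G) * B * ρ (m : G)⁻¹) := by
      have : ρ (m : G)⁻¹ * ρ (m : G) = 1 := rho_inv_mul ρ _
      calc ρ (m : G) * (ρ n' * B) * ρ (m : G)⁻¹
          = ρ (m : G) * ρ n' * 1 * B * ρ (m : G)⁻¹ := by rw [mul_one]; simp only [mul_assoc]
        _ = _ := by rw [← this]; simp only [mul_assoc]
    rw [h2, h.conj_ap m.2 hn', Cm_conj hB m.2, smul_mul_assoc]
  rw [h1, smul_smul]
  congr 1
  rw [h.ep_mul_right m.2 (N.inv_mem hn) hn']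
  congr 1
  have h6 : ep ρ m (n * n⁻¹) = ep ρ m n * ep ρ m n⁻¹ := h.ep_mul_right m.2 hn (N.inv_mem hn)
  rw [mul_inv_cancel, ep_one_right] at h6
  have h7 := ep_sq (ρ := ρ) m n
  exact mul_left_cancel₀ (ep_ne _ n) (h7.trans h6)

/-- orthogonality -/
theorem sum_ep [Nontrivial V] (h : Gr ρ N) {n : G} (hn : n ∈ N) (hns : n ∉ Sc ρ) :
    ∑ m : N, ep ρ m n = 0 := by
  let φ : N →* F :=
    { toFun := fun m => ep ρ m n
      map_one' := ep_one_left n
      map_mul' := fun a b => h.ep_mul_left a.2 b.2 hn }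
  refine sum_hom_units_eq_zero φ fun hφ => hns ?_
  refine h.cen n hn fun b hb => ?_
  have h1 : ep ρ b n = 1 := DFunLike.congr_fun hφ (⟨b, hb⟩ : N)
  exact (h.comm_of_ep h1).symm

theorem sum_ep_Sc (h : Gr ρ N) {n : G} (hns : n ∈ Sc ρ) :
    ∑ m : N, ep ρ m n = (Nat.card N : F) := by
  have h1 : ∀ m : N, ep ρ (m : G) n = 1 := fun m => h.ep_Sc (m : G) hns
  simp only [h1, Finset.sum_const, Finset.card_univ, Nat.card_eq_fintype_card, nsmul_eq_mul, mul_one]

theorem PP_same [Nontrivial V] (h : Gr ρ N) {n n' : G} (hn : n ∈ N) (hn' : n' ∈ N)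
    (hs : n⁻¹ * n' ∈ Sc ρ) {B : End F V} (hB : B ∈ Cm ρ N) : PP ρ N n (ρ n' * B) = ρ n' * B := by
  rw [h.PP_rho_mul hn hn' hB, h.sum_ep_Sc hs, inv_mul_cancel₀ h.card, one_smul]

theorem PP_ne [Nontrivial V] (h : Gr ρ N) {n n' : G} (hn : n ∈ N) (hn' : n' ∈ N)
    (hs : n⁻¹ * n' ∉ Sc ρ) {B : End F V} (hB : B ∈ Cm ρ N) : PP ρ N n (ρ n' * B) = 0 := by
  rw [h.PP_rho_mul hn hn' hB, h.sum_ep (N.mul_mem (N.inv_mem hn) hn') hs, mul_zero, zero_smul]

/-- `P(n)` depends on `n` modulo `X` only -/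
theorem PP_congr [Nontrivial V] (h : Gr ρ N) {n n' : G} (hn : n ∈ N) (hn' : n' ∈ N)
    (hs : n⁻¹ * n' ∈ Sc ρ) : PP ρ N n = PP ρ N n' := by
  apply LinearMap.ext
  intro A
  rw [PP_apply, PP_apply]
  congr 1
  refine Finset.sum_congr rfl fun m _ => ?_
  congr 1
  have h1 : n' = n * (n⁻¹ * n') := by group
  rw [h1, h.ep_mul_right m.2 hn (N.mul_mem (N.inv_mem hn) hn'), h.ep_Sc _ hs, mul_one]

/-- conjugation by an element normalising `N` -/
theorem PP_conj (h : Gr ρ N) {y : G} (hy : ∀ m, m ∈ N ↔ y * m * y⁻¹ ∈ N) {n : G} (hn : n ∈ N)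
    {A : End F V} (hA : ρ y * A = A * ρ y) :
    PP ρ N (y * n * y⁻¹) A = ρ y * PP ρ N n A * ρ y⁻¹ := by
  have hA' : A = ρ y * A * ρ y⁻¹ := by rw [hA, mul_assoc, rho_mul_inv, mul_one]
  rw [PP_apply, PP_apply, mul_smul_comm, smul_mul_assoc]
  congr 1
  rw [Finset.mul_sum, Finset.sum_mul]
  let e : N ≃ N :=
    { toFun := fun m => ⟨y * m * y⁻¹, (hy m).mp m.2⟩
      invFun := fun m => ⟨y⁻¹ * m * y, by
        rw [hy]
        have : y * (y⁻¹ * (m : G) * y) * y⁻¹ = m := by group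
        rw [this]; exact m.2⟩
      left_inv := fun m => Subtype.ext (by show y⁻¹ * (y * (m : G) * y⁻¹) * y = m; group)
      right_inv := fun m => Subtype.ext (by show y * (y⁻¹ * (m : G) * y) * y⁻¹ = m; group) }
  refine (Fintype.sum_equiv e _ _ fun m => ?_).symm
  show _ = ep ρ (y * m * y⁻¹) (y * n * y⁻¹) • (ρ (y * m * y⁻¹) * A * ρ (y * m * y⁻¹)⁻¹)
  have h1 : ep ρ (y * m * y⁻¹) (y * n * y⁻¹) = ep ρ m n := by
    unfold ep
    congr 1
    have h2 : y * (m : G) * y⁻¹ * (y * n * y⁻¹) * (y * (m : G) * y⁻¹)⁻¹ * (y * n * y⁻¹)⁻¹ =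
        y * (m * n * (m : G)⁻¹ * n⁻¹) * y⁻¹ := by group
    rw [h2, Sc_comm h.inj (h.comm m m.2 n hn) y, mul_inv_cancel_right]
  rw [h1, mul_smul_comm, smul_mul_assoc]
  congr 1
  conv_lhs => rw [hA']
  have h2 : (y * (m : G) * y⁻¹)⁻¹ = y * (m : G)⁻¹ * y⁻¹ := by group
  rw [h2, map_mul, map_mul, map_mul, map_mul]
  have h3 : ρ y⁻¹ * ρ y = 1 := rho_inv_mul ρ y
  have h4 : ρ y * A * ρ y⁻¹ = A := hA'.symm
  calc ρ y * (ρ (m : G) * (ρ y * A * ρ y⁻¹) * ρ (m : G)⁻¹) * ρ y⁻¹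
      = ρ y * ρ (m : G) * (ρ y * A * ρ y⁻¹) * ρ (m : G)⁻¹ * ρ y⁻¹ := by simp only [mul_assoc]
    _ = ρ y * ρ (m : G) * A * ρ (m : G)⁻¹ * ρ y⁻¹ := by rw [h4]
    _ = ρ y * ρ (m : G) * (ρ y⁻¹ * A * ρ y) * ρ (m : G)⁻¹ * ρ y⁻¹ := by
        have h5 : ρ y⁻¹ * A * ρ y = A := by rw [mul_assoc, ← hA, ← mul_assoc, h3, one_mul]
        rw [h5]
    _ = _ := by simp only [mul_assoc]

/-! ### The decomposition -/

variable (ρ N) in
/-- `N` modulo the elements acting as `±1` -/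
abbrev QQ : Type _ := N ⧸ (Sc ρ).subgroupOf N

variable (ρ N) in
/-- representatives -/
noncomputable def rp (q : QQ ρ N) : G := ((Quotient.out q : N) : G)

omit [Fintype N] in
theorem rp_mem (q : QQ ρ N) : rp ρ N q ∈ N := (Quotient.out q : N).2

omit [Fintype N] in
theorem rp_inv_mul {n : G} (hn : n ∈ N) :
    (rp ρ N (QuotientGroup.mk ⟨n, hn⟩))⁻¹ * n ∈ Sc ρ := by
  have h1 : (QuotientGroup.mk (Quotient.out (QuotientGroup.mk ⟨n, hn⟩ : QQ ρ N)) : QQ ρ N) =
    QuotientGroup.mk ⟨n, hn⟩ := Quotient.out_eq' _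
  have h2 := QuotientGroup.eq.mp h1
  rw [Subgroup.mem_subgroupOf] at h2
  exact h2

omit [Fintype N] in
theorem mk_rp (q : QQ ρ N) : (QuotientGroup.mk ⟨rp ρ N q, rp_mem q⟩ : QQ ρ N) = q := Quotient.out_eq' q

omit [Fintype N] in
theorem rp_inj {q q' : QQ ρ N} (h : (rp ρ N q)⁻¹ * rp ρ N q' ∈ Sc ρ) : q = q' := by
  rw [← mk_rp q, ← mk_rp q', QuotientGroup.eq, Subgroup.mem_subgroupOf]
  exact h

variable [Fintype (QQ ρ N)]

/-- the second orthogonality -/
theorem sum_ep' [Nontrivial V] (h : Gr ρ N) {m : G} (hm : m ∈ N) (hms : m ∉ Sc ρ) :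
    ∑ q : QQ ρ N, ep ρ m (rp ρ N q) = 0 := by
  have key : ∀ n : N, ep ρ m (rp ρ N (QuotientGroup.mk n)) = ep ρ m n := by
    intro n
    have h1 := rp_inv_mul (ρ := ρ) n.2
    have h2 : (n : G) = rp ρ N (QuotientGroup.mk n) * ((rp ρ N (QuotientGroup.mk n))⁻¹ * n) := by group
    conv_rhs => rw [h2]
    rw [h.ep_mul_right hm (rp_mem _) (N.mul_mem (N.inv_mem (rp_mem _)) n.2), h.ep_Sc _ h1, mul_one]
  let φ : QQ ρ N →* F :=
    { toFun := fun q => ep ρ m (rp ρ N q)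
      map_one' := by
        have := key 1
        rw [QuotientGroup.mk_one] at this
        rw [this]
        exact ep_one_right m
      map_mul' := fun a b => by
        obtain ⟨a, rfl⟩ := QuotientGroup.mk_surjective a
        obtain ⟨b, rfl⟩ := QuotientGroup.mk_surjective b
        rw [← QuotientGroup.mk_mul, key, key, key]
        exact h.ep_mul_right hm a.2 b.2 }
  refine sum_hom_units_eq_zero φ fun hφ => hms ?_
  refine h.cen m hm fun b hb => ?_
  have h1 : ep ρ m (rp ρ N (QuotientGroup.mk ⟨b, hb⟩)) = 1 := DFunLike.congr_fun hφ _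
  rw [key] at h1
  exact h.comm_of_ep h1

/-- `A = ∑ P(n) A` -/
theorem sum_PP [Nontrivial V] (h : Gr ρ N) (A : End F V) :
    ∑ q : QQ ρ N, PP ρ N (rp ρ N q) A = A := by
  classical
  have h1 : ∑ q : QQ ρ N, PP ρ N (rp ρ N q) A =
      (Nat.card N : F)⁻¹ • ∑ m : N, (∑ q : QQ ρ N, ep ρ m (rp ρ N q)) • (ρ (m : G) * A * ρ (m : G)⁻¹) := by
    rw [Finset.sum_congr rfl fun q _ => PP_apply ρ N (rp ρ N q) A, ← Finset.smul_sum, Finset.sum_comm]
    congr 1
    refine Finset.sum_congr rfl fun m _ => ?_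
    rw [Finset.sum_smul]
  have h2 : ∀ m : N, (∑ q : QQ ρ N, ep ρ m (rp ρ N q)) • (ρ (m : G) * A * ρ (m : G)⁻¹) =
      if m ∈ (Sc ρ).subgroupOf N then (Fintype.card (QQ ρ N) : F) • A else 0 := by
    intro m
    by_cases hm : m ∈ (Sc ρ).subgroupOf N
    · rw [if_pos hm]
      rw [Subgroup.mem_subgroupOf] at hm
      have h3 : ∀ q : QQ ρ N, ep ρ m (rp ρ N q) = 1 := fun q => h.ep_Sc' _ hm
      have h4 : ρ (m : G) * A = A * ρ (m : G) := by
        apply LinearMap.ext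
        intro v
        rw [End.mul_apply, End.mul_apply, sg_smul hm, sg_smul hm, map_smul]
      simp only [h3, Finset.sum_const, Finset.card_univ, nsmul_eq_mul, mul_one]
      rw [h4, mul_assoc, rho_mul_inv, mul_one]
    · rw [if_neg hm]
      rw [Subgroup.mem_subgroupOf] at hm
      rw [h.sum_ep' m.2 hm, zero_smul]
  rw [h1, Finset.sum_congr rfl fun m _ => h2 m, ← Finset.sum_filter, Finset.sum_const,
    ← Nat.cast_smul_eq_nsmul F, smul_smul, smul_smul]
  have h3 : (Finset.univ.filter fun m : N => m ∈ (Sc ρ).subgroupOf N).card =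
      Nat.card ((Sc ρ).subgroupOf N) := by
    rw [Nat.card_eq_fintype_card, Fintype.card_subtype]
  have h4 := Subgroup.card_eq_card_quotient_mul_card_subgroup ((Sc ρ).subgroupOf N)
  have h5 : (Nat.card N : F) = (Fintype.card (QQ ρ N) : F) * (Nat.card ((Sc ρ).subgroupOf N) : F) := by
    rw [h4, Nat.cast_mul, ← Nat.card_eq_fintype_card]
  have h6 : (Nat.card N : F)⁻¹ * (((Finset.univ.filter fun m : N => m ∈ (Sc ρ).subgroupOf N).card : ℕ) : F) *
      (Fintype.card (QQ ρ N) : F) = 1 := by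
    rw [h3, mul_assoc, mul_comm _ (Fintype.card (QQ ρ N) : F), ← h5, inv_mul_cancel₀ h.card]
  rw [h6, one_smul]

/-- the components of `A` -/
noncomputable def Psi [Nontrivial V] (h : Gr ρ N) : End F V →ₗ[F] (QQ ρ N → Cm ρ N) where
  toFun A q := ⟨ρ (rp ρ N q)⁻¹ * PP ρ N (rp ρ N q) A, h.inv_PP_mem (rp_mem q) A⟩
  map_add' A B := by
    funext q
    apply Subtype.ext
    show ρ (rp ρ N q)⁻¹ * PP ρ N (rp ρ N q) (A + B) = _ + _
    rw [map_add, mul_add]
  map_smul' c A := by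
    funext q
    apply Subtype.ext
    show ρ (rp ρ N q)⁻¹ * PP ρ N (rp ρ N q) (c • A) = c • _
    rw [map_smul, mul_smul_comm]

variable (ρ N) in
/-- reassembling -/
noncomputable def Phi : (QQ ρ N → Cm ρ N) →ₗ[F] End F V where
  toFun B := ∑ q, ρ (rp ρ N q) * (B q : End F V)
  map_add' A B := by
    rw [← Finset.sum_add_distrib]
    refine Finset.sum_congr rfl fun q _ => ?_
    show ρ (rp ρ N q) * ((A q : End F V) + (B q : End F V)) = _
    rw [mul_add]
  map_smul' c A := by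
    rw [Finset.smul_sum]
    refine Finset.sum_congr rfl fun q _ => ?_
    show ρ (rp ρ N q) * (c • (A q : End F V)) = _
    rw [mul_smul_comm]
    rfl

theorem Phi_Psi [Nontrivial V] (h : Gr ρ N) (A : End F V) : Phi ρ N (h.Psi A) = A := by
  show ∑ q : QQ ρ N, ρ (rp ρ N q) * (ρ (rp ρ N q)⁻¹ * PP ρ N (rp ρ N q) A) = A
  rw [Finset.sum_congr rfl fun q _ => by rw [← mul_assoc, rho_mul_inv, one_mul]]
  exact h.sum_PP A

theorem Psi_Phi [Nontrivial V] (h : Gr ρ N) (B : QQ ρ N → Cm ρ N) : h.Psi (Phi ρ N B) = B := by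
  funext q
  apply Subtype.ext
  show ρ (rp ρ N q)⁻¹ * PP ρ N (rp ρ N q) (∑ q', ρ (rp ρ N q') * (B q' : End F V)) = B q
  rw [map_sum, Finset.sum_eq_single q]
  · rw [h.PP_same (rp_mem q) (rp_mem q) (by rw [inv_mul_cancel]; exact Subgroup.one_mem _) (B q).2,
      ← mul_assoc, rho_inv_mul, one_mul]
  · intro q' _ hq'
    exact h.PP_ne (rp_mem q) (rp_mem q') (fun hs => hq' (rp_inj hs).symm) (B q').2
  · intro hq
    exact absurd (Finset.mem_univ q) hq

/-- **the dimension formula** -/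
theorem finrank_end [Nontrivial V] [FiniteDimensional F V] (h : Gr ρ N) :
    finrank F V * finrank F V = Fintype.card (QQ ρ N) * finrank F (Cm ρ N) := by
  let e : End F V ≃ₗ[F] (QQ ρ N → Cm ρ N) :=
    { h.Psi with
      invFun := Phi ρ N
      left_inv := h.Phi_Psi
      right_inv := h.Psi_Phi }
  rw [← Module.finrank_linearMap, e.finrank_eq, Module.finrank_pi_fintype, Finset.sum_const,
    Finset.card_univ, smul_eq_mul]

theorem PP_zero_of_Psi [Nontrivial V] (h : Gr ρ N) {A : End F V} {q : QQ ρ N} (hA : h.Psi A q = 0) :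
    PP ρ N (rp ρ N q) A = 0 := by
  have h1 : ρ (rp ρ N q)⁻¹ * PP ρ N (rp ρ N q) A = 0 := congrArg Subtype.val hA
  have h2 : ρ (rp ρ N q) * (ρ (rp ρ N q)⁻¹ * PP ρ N (rp ρ N q) A) = 0 := by rw [h1, mul_zero]
  rwa [← mul_assoc, rho_mul_inv, one_mul] at h2

end

/-- the centraliser of `y` in `End V` -/
def Cy (ρ : Representation F G V) (y : G) : Submodule F (End F V) where
  carrier := {A | ρ y * A = A * ρ y}
  zero_mem' := by show ρ y * 0 = 0 * ρ y; rw [mul_zero, zero_mul]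
  add_mem' := fun {A B} hA hB => by
    show ρ y * (A + B) = (A + B) * ρ y
    rw [mul_add, add_mul, show ρ y * A = A * ρ y from hA, show ρ y * B = B * ρ y from hB]
  smul_mem' := fun c A hA => by
    show ρ y * (c • A) = (c • A) * ρ y
    rw [mul_smul_comm, smul_mul_assoc, show ρ y * A = A * ρ y from hA]

theorem Cy_pow {y : G} {A : End F V} (hA : A ∈ Cy ρ y) (k : ℕ) : ρ (y ^ k) * A = A * ρ (y ^ k) := by
  induction k with
  | zero => rw [pow_zero, map_one, one_mul, mul_one]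
  | succ k ih =>
    have h1 : ρ y * A = A * ρ y := hA
    rw [pow_succ, map_mul, mul_assoc, h1, ← mul_assoc, ih, mul_assoc]

theorem norm_pow {y : G} (hy : ∀ m, m ∈ N ↔ y * m * y⁻¹ ∈ N) (k : ℕ) (m : G) :
    m ∈ N ↔ y ^ k * m * (y ^ k)⁻¹ ∈ N := by
  induction k with
  | zero => simp
  | succ k ih =>
    rw [ih, hy]
    have : y * (y ^ k * m * (y ^ k)⁻¹) * y⁻¹ = y ^ (k + 1) * m * (y ^ (k + 1))⁻¹ := by
      rw [pow_succ']; group
    rw [this]

/-- **the bound for the centraliser of `y`** -/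
theorem finrank_Cy_le [Nontrivial V] [FiniteDimensional F V] [Finite N] (h : Gr ρ N) {y : G}
    (hy : ∀ m, m ∈ N ↔ y * m * y⁻¹ ∈ N) (T : Set G) (hT : T ⊆ N) (hTf : T.Finite)
    (hTy : ∀ n ∈ N, ∃ t ∈ T, ∃ k : ℕ, (y ^ k * t * (y ^ k)⁻¹)⁻¹ * n ∈ Sc ρ) :
    finrank F (Cy ρ y) ≤ T.ncard * finrank F (Cm ρ N) := by
  classical
  have : Fintype N := Fintype.ofFinite N
  have : Fintype (QQ ρ N) := Fintype.ofFinite _
  have : Fintype T := hTf.fintype
  let L : Cy ρ y →ₗ[F] (T → Cm ρ N) :=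
    { toFun := fun A t => ⟨ρ (t : G)⁻¹ * PP ρ N t A, h.inv_PP_mem (hT t.2) _⟩
      map_add' := fun A B => by
        funext t
        apply Subtype.ext
        show ρ (t : G)⁻¹ * PP ρ N t ((A : End F V) + B) = _ + _
        rw [map_add, mul_add]
      map_smul' := fun c A => by
        funext t
        apply Subtype.ext
        show ρ (t : G)⁻¹ * PP ρ N t (c • (A : End F V)) = c • _
        rw [map_smul, mul_smul_comm] }
  have hL : Function.Injective L := by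
    rw [injective_iff_map_eq_zero]
    intro A hA
    have h1 : ∀ t ∈ T, PP ρ N t (A : End F V) = 0 := by
      intro t ht
      have h2 : ρ t⁻¹ * PP ρ N t (A : End F V) = 0 := congrArg Subtype.val (congrFun hA ⟨t, ht⟩)
      have h3 : ρ t * (ρ t⁻¹ * PP ρ N t (A : End F V)) = 0 := by rw [h2, mul_zero]
      rwa [← mul_assoc, rho_mul_inv, one_mul] at h3
    have h2 : ∀ n ∈ N, PP ρ N n (A : End F V) = 0 := by
      intro n hn
      obtain ⟨t, ht, k, hs⟩ := hTy n hn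
      rw [← h.PP_congr ((norm_pow hy k t).mp (hT ht)) hn hs,
        h.PP_conj (norm_pow hy k) (hT ht) (Cy_pow A.2 k), h1 t ht, mul_zero, zero_mul]
    apply Subtype.ext
    show (A : End F V) = 0
    rw [← h.sum_PP (A : End F V)]
    exact Finset.sum_eq_zero fun q _ => h2 _ (rp_mem q)
  have h1 := LinearMap.finrank_le_finrank_of_injective hL
  rw [Module.finrank_pi_fintype, Finset.sum_const, Finset.card_univ, smul_eq_mul] at h1
  rw [Set.ncard_eq_toFinset_card', Set.toFinset_card]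
  exact h1

end Gr

end Cfsg.Agent.H170.Fl
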