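import Cfsg.Agent.H170.Fl.Blocks

/-!
# No blocks of dimension one (helper170)
-/

set_option autoImplicit false

namespace Cfsg.Agent.H170.Fl

open Module Cfsg.Agent.H167.OP Cfsg.Agent.H170.HL

variable {F : Type*} [Field F] {V : Type*} [AddCommGroup V] [Module F V] {G : Type*} [Group G]
  {ι : Type*} [MulAction G ι] {ρ : Representation F G V} {B : ι → Submodule F V} {R R' : Subgroup G}

/-- `R` acts on a system of lines: four of them are permuted transitively and span `[V, R]`, the others are fixed -/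
theorem QR.lines [Finite G] [Finite ι] [FiniteDimensional F V] (hR : QR ρ R) (hB : Blk ρ B)
    (h1 : ∀ i, finrank F (B i) = 1) :
    ∃ O : Set ι, O.ncard = 4 ∧ (⨆ i ∈ O, B i) = CV ρ R ∧ (∀ i ∈ O, ∀ j ∈ O, ∃ r ∈ R, r • i = j) ∧
      ∀ r ∈ R, ∀ i, i ∉ O → r • i = i := by
  classical
  let O : Set ι := {i | ¬ B i ≤ FixS ρ R}
  have hCV : CV ρ R ≠ ⊥ := by
    intro h0
    have := hR.dim
    rw [h0, finrank_bot] at this
    omega
  -- the span of an orbit
  let W : ι → Submodule F V := fun i => ⨆ j ∈ {j | ∃ r ∈ R, r • i = j}, B j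
  have hW : ∀ i ∈ O, CV ρ R ≤ W i := by
    intro i hi
    have hinv : ∀ r ∈ R, ∀ m ∈ W i, ρ r m ∈ W i := by
      intro r hr m hm
      have : W i ≤ (W i).comap (ρ r) := by
        refine iSup₂_le fun j hj v hv => ?_
        obtain ⟨r', hr', rfl⟩ := hj
        have h2 := hB.map r _ _ hv
        refine (le_biSup B (i := r • r' • i) ?_ : _ ≤ W i) h2
        exact ⟨r * r', R.mul_mem hr hr', mul_smul _ _ _⟩
      exact this hm
    have hBW : B i ≤ W i := le_biSup B (i := i) ⟨1, R.one_mem, one_smul G i⟩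
    rcases hR.irr (CV ρ R ⊓ W i) inf_le_left (fun r hr m hm => ⟨CV_inv ρ hr hm.1, hinv r hr m hm.2⟩) with
      h2 | h2
    · exfalso
      apply hi
      intro v hv r hr
      have h3 : ρ r v - v ∈ CV ρ R ⊓ W i :=
        ⟨sub_mem_CV ρ hr v, (W i).sub_mem (hinv r hr v (hBW hv)) (hBW hv)⟩
      rw [h2, Submodule.mem_bot] at h3
      exact sub_eq_zero.mp h3
    · rw [← h2]
      exact inf_le_right
  have htr : ∀ i ∈ O, ∀ j ∈ O, ∃ r ∈ R, r • i = j := by
    intro i hi j hj
    by_contra hcon
    push Not at hcon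
    have hdis : Disjoint {k | ∃ r ∈ R, r • i = k} {k | ∃ r ∈ R, r • j = k} := by
      rw [Set.disjoint_left]
      rintro k ⟨r, hr, rfl⟩ ⟨r', hr', hk⟩
      refine hcon (r'⁻¹ * r) (R.mul_mem (R.inv_mem hr') hr) ?_
      rw [mul_smul, ← hk, inv_smul_smul]
    have h2 := hB.ind.disjoint_biSup_biSup hdis
    apply hCV
    rw [eq_bot_iff, ← h2.eq_bot]
    exact le_inf (hW i hi) (hW j hj)
  -- `O` is not empty
  obtain ⟨o, ho⟩ : ∃ o, o ∈ O := by
    by_contra hcon
    push Not at hcon
    apply hCV
    apply CV_eq_bot_of_fix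
    rw [eq_top_iff, ← hB.sup]
    exact iSup_le fun i => by
      have := hcon i
      simpa [O] using this
  have hOinv : ∀ r ∈ R, ∀ i ∈ O, r • i ∈ O := by
    intro r hr i hi hcon
    apply hi
    intro v hv r' hr'
    have h2 := hcon (hB.map r i v hv)
    have h3 := h2 (r' * r) (R.mul_mem hr' hr)
    have h4 := h2 r⁻¹ (R.inv_mem hr)
    rw [inv_ap] at h4
    -- `v = ρ r v`
    rw [h4]
    exact h2 r' hr'
  have hOeq : O = {j | ∃ r ∈ R, r • o = j} := by
    ext j
    constructor
    · intro hj
      exact htr o ho j hj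
    · rintro ⟨r, hr, rfl⟩
      exact hOinv r hr o ho
  -- basis vectors
  choose b hb hb0 using hB.exists_ne
  have hspan : ∀ i, B i = Submodule.span F {b i} := by
    intro i
    symm
    apply Submodule.eq_of_le_of_finrank_eq
    · rw [Submodule.span_singleton_le_iff_mem]
      exact hb i
    · rw [finrank_span_singleton (hb0 i), h1 i]
  have hli : LinearIndependent F b := hB.ind.linearIndependent B hb hb0
  have hWO : (⨆ i ∈ O, B i) = Submodule.span F (Set.range fun i : O => b i) := by
    rw [Submodule.span_range_eq_iSup, iSup_subtype']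
    exact iSup_congr fun i => hspan i
  have hdimO : finrank F (⨆ i ∈ O, B i : Submodule F V) = O.ncard := by
    have : Fintype O := Fintype.ofFinite O
    have h2 : LinearIndependent F (fun i : O => b i) := hli.comp _ Subtype.val_injective
    rw [hWO, finrank_span_eq_card h2, ← Nat.card_coe_set_eq, Nat.card_eq_fintype_card]
  have hle1 : CV ρ R ≤ ⨆ i ∈ O, B i := by
    have h2 := hW o ho
    have h3 : W o = ⨆ i ∈ O, B i := by
      show (⨆ j ∈ {j | ∃ r ∈ R, r • o = j}, B j) = _
      rw [hOeq]
    rw [h3] at h2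
    exact h2
  have hle2 : (⨆ i ∈ O, B i) ≤ CV ρ R ⊔ Submodule.span F {b o} := by
    refine iSup₂_le fun j hj => ?_
    obtain ⟨r, hr, hrj⟩ := htr o ho j hj
    have h2 : ρ r (b o) ∈ B j := by
      rw [← hrj]; exact hB.map r o _ (hb o)
    have h3 : ρ r (b o) ≠ 0 := by
      intro h0
      apply hb0 o
      rw [← inv_ap ρ r (b o), h0, map_zero]
    have h4 : B j = Submodule.span F {ρ r (b o)} := by
      symm
      apply Submodule.eq_of_le_of_finrank_eq
      · rw [Submodule.span_singleton_le_iff_mem]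
        exact h2
      · rw [finrank_span_singleton h3, h1 j]
    rw [h4, Submodule.span_singleton_le_iff_mem]
    have h5 : ρ r (b o) = (ρ r (b o) - b o) + b o := by abel
    rw [h5]
    exact Submodule.add_mem_sup (sub_mem_CV ρ hr _) (Submodule.mem_span_singleton_self _)
  have hc4 : 4 ≤ O.ncard := by
    rw [← hdimO, ← hR.dim]
    exact Submodule.finrank_mono hle1
  have hc5 : O.ncard ≤ 5 := by
    rw [← hdimO]
    refine (Submodule.finrank_mono hle2).trans ?_
    refine (Submodule.finrank_add_le_finrank_add_finrank _ _).trans ?_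
    rw [hR.dim, finrank_span_singleton (hb0 o)]
  -- the cardinality is a power of two
  have hpow : ∃ k : ℕ, O.ncard = 2 ^ k := by
    obtain ⟨n, hn⟩ := hR.pg.exists_card_eq
    have h2 := MulAction.index_stabilizer R o
    have h3 : MulAction.orbit R o = O := by
      rw [hOeq]
      ext j
      constructor
      · rintro ⟨⟨r, hr⟩, rfl⟩
        exact ⟨r, hr, rfl⟩
      · rintro ⟨r, hr, rfl⟩
        exact ⟨⟨r, hr⟩, rfl⟩
    rw [h3] at h2
    have h4 : O.ncard ∣ 2 ^ n := by
      rw [← h2, ← hn]
      exact Subgroup.index_dvd_card _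
    obtain ⟨k, -, hk⟩ := (Nat.dvd_prime_pow Nat.prime_two).mp h4
    exact ⟨k, hk⟩
  have hcard : O.ncard = 4 := by
    obtain ⟨k, hk⟩ := hpow
    have h2 : O.ncard ≠ 5 := by
      intro h5
      rw [h5] at hk
      have hk3 : k < 3 := by
        by_contra hcon
        push Not at hcon
        have := Nat.pow_le_pow_right (n := 2) (by norm_num) hcon
        omega
      interval_cases k <;> omega
    omega
  refine ⟨O, hcard, ?_, htr, ?_⟩
  · symm
    apply Submodule.eq_of_le_of_finrank_eq hle1
    rw [hdimO, hcard, hR.dim]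
  · intro r hr i hi
    have h2 : B i ≤ FixS ρ R := by simpa [O] using hi
    have h3 := h2 (hb i) r hr
    have h4 := hB.map r i _ (hb i)
    rw [h3] at h4
    exact hB.eq_of_mem h4 (hb i) (hb0 i)

/-- **no blocks** -/
theorem Hyp.no_blocks [Finite G] [Finite ι] (h : Hyp ρ R R') (hB : Blk ρ B) [Nontrivial ι] : False := by
  classical
  have := h.finDim
  have h1 : ∀ i, finrank F (B i) = 1 := by
    intro i
    have h2 := h.no_blocks_two hB i
    have h3 : 0 < finrank F (B i) := by
      rw [Module.finrank_pos_iff]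
      exact Submodule.nontrivial_iff_ne_bot.mpr (hB.ne i)
    omega
  obtain ⟨O, hO4, hOs, hOt, hOf⟩ := h.qr.lines hB h1
  obtain ⟨O', hO4', hOs', hOt', hOf'⟩ := h.qr'.lines hB h1
  have hne : O ≠ O' := by
    rintro rfl
    have h2 := h.sup
    rw [← hOs, ← hOs', sup_idem, hOs] at h2
    have h3 := h.qr.dim
    rw [h2, finrank_top] at h3
    have := h.five
    omega
  -- the sets meet
  obtain ⟨p, hp, hp'⟩ : ∃ p, p ∈ O ∧ p ∈ O' := by
    by_contra hcon
    push Not at hcon
    have hinv : ∀ g : G, ∀ j ∈ O, g • j ∈ O := by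
      have hRO : ∀ r ∈ R, ∀ j ∈ O, r • j ∈ O := by
        intro r hr j hj
        by_contra hc
        have h2 := hOf r⁻¹ (R.inv_mem hr) _ hc
        rw [inv_smul_smul] at h2
        rw [← h2] at hc
        exact hc hj
      have hRO' : ∀ r ∈ R', ∀ j ∈ O, r • j ∈ O := by
        intro r hr j hj
        rw [hOf' r hr j (hcon j hj)]
        exact hj
      let S : Subgroup G :=
        { carrier := {g | ∀ j ∈ O, g • j ∈ O}
          one_mem' := fun j hj => by rwa [one_smul]
          mul_mem' := fun ha hb j hj => by rw [mul_smul]; exact ha _ (hb j hj)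
          inv_mem' := by
            intro a ha j hj
            have h2 : (fun k => a • k) '' O = O := by
              refine Set.eq_of_subset_of_ncard_le ?_ ?_
              · rintro _ ⟨k, hk, rfl⟩
                exact ha k hk
              · rw [Set.ncard_image_of_injective _ (MulAction.injective a)]
            rw [← h2] at hj
            obtain ⟨l, hl, hlk⟩ := hj
            rw [← hlk]
            show a⁻¹ • a • l ∈ _
            rwa [inv_smul_smul] }
      have hS : (⊤ : Subgroup G) ≤ S := by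
        rw [← h.gen]
        exact sup_le hRO hRO'
      exact fun g => hS (Subgroup.mem_top g)
    obtain ⟨i, hi⟩ : O.Nonempty := by
      rw [← Set.ncard_pos]
      omega
    have hall := hB.eq_univ h.irr hi hinv
    have h2 : CV ρ R = ⊤ := by
      rw [← hOs, eq_top_iff, ← hB.sup]
      exact iSup_le fun j => le_biSup B (hall j)
    have h3 := h.qr.dim
    rw [h2, finrank_top] at h3
    have := h.five
    omega
  obtain ⟨a, ha, ha'⟩ : ∃ a ∈ O, a ∉ O' := by
    by_contra hcon
    push Not at hcon
    exact hne (Set.eq_of_subset_of_ncard_le hcon (by omega))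
  obtain ⟨b, hb, hb'⟩ : ∃ b ∈ O', b ∉ O := by
    by_contra hcon
    push Not at hcon
    exact hne (Set.eq_of_subset_of_ncard_le hcon (by omega)).symm
  obtain ⟨σ, hσ, hσp⟩ := hOt p hp a ha
  obtain ⟨τ, hτ, hτp⟩ := hOt' p hp' b hb
  -- squares act trivially
  have hsq : ∀ (S : Subgroup G), QR ρ S → ∀ (P : Set ι), (⨆ i ∈ P, B i) = CV ρ S → ∀ s ∈ S, ∀ i ∈ P,
      (s * s) • i = i := by
    intro S hS P hP s hs i hi
    obtain ⟨v, hv, hv0⟩ := hB.exists_ne i
    have hvC : v ∈ CV ρ S := by
      rw [← hP]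
      exact (le_biSup B hi) hv
    have h2 := hB.map (s * s) i v hv
    have h3 : v ∈ B ((s * s) • i) := by
      rcases hS.sq s hs with h4 | h4
      · rwa [h4 v hvC] at h2
      · rw [h4 v hvC] at h2
        exact (Submodule.neg_mem_iff _).mp h2
    exact hB.eq_of_mem h3 hv hv0
  have h2 : σ • a = p := by
    rw [← hσp, ← mul_smul]
    exact hsq R h.qr O hOs σ hσ p hp
  have h3 : τ • b = p := by
    rw [← hτp, ← mul_smul]
    exact hsq R' h.qr' O' hOs' τ hτ p hp'
  have hpb : p ≠ b := by
    rintro rfl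
    exact hb' hp
  exact h.three (three_dvd hpb hσp h2 (hOf σ hσ b hb') hτp h3 (hOf' τ hτ a ha'))

end Cfsg.Agent.H170.Fl
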