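import Mathlib

/-!
# 3'-subgroups of odd index of symmetric groups are 2-groups (helper170)
-/

set_option autoImplicit false

namespace Cfsg.Agent.H170.Fl

open Equiv

universe u

/-- a subgroup of odd index contains a conjugate of each 2-subgroup -/
theorem exists_conj_le {G : Type*} [Group G] [Finite G] {H : Subgroup G} (hH : ¬ 2 ∣ H.index)
    {P : Subgroup G} (hP : IsPGroup 2 P) : ∃ g : G, ∀ x ∈ P, g * x * g⁻¹ ∈ H := by
  have : Fact (Nat.Prime 2) := ⟨Nat.prime_two⟩
  obtain ⟨T⟩ : Nonempty (Sylow 2 H) := inferInstance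
  have h1 : IsPGroup 2 ((T : Subgroup H).map H.subtype) := T.2.map _
  have hi : ¬ 2 ∣ ((T : Subgroup H).map H.subtype).index := by
    have h3 : ((T : Subgroup H).map H.subtype).index = (T : Subgroup H).index * H.index := by
      have := Subgroup.index_map (T : Subgroup H) H.subtype
      rwa [H.ker_subtype, sup_bot_eq, Subgroup.range_subtype] at this
    rw [h3, Nat.prime_two.dvd_mul, not_or]
    exact ⟨T.not_dvd_index, hH⟩
  let R : Sylow 2 G := h1.toSylow hi
  obtain ⟨Q, hQ⟩ := hP.exists_le_sylow
  obtain ⟨g, hg⟩ := MulAction.exists_smul_eq G Q R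
  refine ⟨g, fun x hx => ?_⟩
  have h2 : g * x * g⁻¹ ∈ (R : Subgroup G) := by
    rw [← hg]
    exact ⟨x, hQ hx, rfl⟩
  have h3 : (R : Subgroup G) ≤ H := Subgroup.map_subtype_le _
  exact h3 h2

/-- two different transpositions with a common point -/
theorem three_dvd_of_swaps {α : Type*} [DecidableEq α] [Finite α] {H : Subgroup (Perm α)} {a b c : α} (hab : a ≠ b)
    (hac : a ≠ c) (hbc : b ≠ c) (h1 : swap a b ∈ H) (h2 : swap a c ∈ H) : 3 ∣ Nat.card H := by
  classical
  have : Fintype α := Fintype.ofFinite α
  have h3 := Equiv.Perm.isThreeCycle_swap_mul_swap_same hab hac hbc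
  have h4 := h3.orderOf
  have h5 : orderOf (⟨swap a b * swap a c, H.mul_mem h1 h2⟩ : H) = 3 := by
    rw [Subgroup.orderOf_mk]; exact h4
  rw [← h5]
  exact orderOf_dvd_natCard _

theorem val_factorial (n : ℕ) :
    padicValNat 2 n.factorial = n / 2 + padicValNat 2 (n / 2).factorial := by
  have : Fact (Nat.Prime 2) := ⟨Nat.prime_two⟩
  have h1 : n = 2 * (n / 2) + n % 2 := (Nat.div_add_mod n 2).symm
  conv_lhs => rw [h1]
  rw [padicValNat_factorial_mul_add _ (Nat.mod_lt n (by norm_num)), padicValNat_factorial_mul, add_comm]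

theorem bool_third {a b c : Bool} (h1 : b ≠ a) (h2 : c ≠ a) : b = c := by
  revert a b c; decide

theorem exists_pairs {n : ℕ} {α : Type u} [Finite α] (hn : Nat.card α = n) {H : Subgroup (Perm α)}
    [DecidableEq α] (hi : ¬ 2 ∣ H.index) : ∃ θ : α ≃ (Fin (n / 2) × Bool) ⊕ Fin (n % 2), ∀ i,
      swap (θ.symm (Sum.inl (i, false))) (θ.symm (Sum.inl (i, true))) ∈ H := by
  obtain ⟨θ⟩ : Nonempty (α ≃ (Fin (n / 2) × Bool) ⊕ Fin (n % 2)) := by
    have h1 : Nat.card ((Fin (n / 2) × Bool) ⊕ Fin (n % 2)) = n := by
      simp
      omega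
    exact Finite.card_eq.mp (by rw [hn, h1])
  have hθ2 : ∀ {i j : Fin (n / 2)} {b c : Bool}, θ.symm (Sum.inl (i, b)) = θ.symm (Sum.inl (j, c)) →
      i = j ∧ b = c := by
    intro i j b c h
    have := Sum.inl.inj (θ.symm.injective h)
    simpa using this
  -- the 2-group
  let P : Subgroup (Perm α) :=
    { carrier := {σ | ∀ i b, ∃ b', σ (θ.symm (Sum.inl (i, b))) = θ.symm (Sum.inl (i, b'))}
      one_mem' := fun i b => ⟨b, rfl⟩
      mul_mem' := by
        intro σ τ hσ hτ i b
        obtain ⟨b', hb'⟩ := hτ i b
        obtain ⟨b'', hb''⟩ := hσ i b'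
        exact ⟨b'', by rw [Perm.mul_apply, hb', hb'']⟩
      inv_mem' := by
        intro σ hσ i b
        obtain ⟨b', hb'⟩ := hσ i b
        obtain ⟨b'', hb''⟩ := hσ i (!b)
        by_cases h : b' = b
        · rw [h] at hb'
          exact ⟨b, by rw [Perm.inv_eq_iff_eq, hb']⟩
        · have h1 : b'' = b := by
            by_contra h2
            have h3 : b' = b'' := bool_third h h2
            rw [← h3, ← hb'] at hb''
            have h4 := (hθ2 (σ.injective hb'')).2
            cases b <;> exact absurd h4 (by decide)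
          rw [h1] at hb''
          exact ⟨!b, by rw [Perm.inv_eq_iff_eq, hb'']⟩ }
  have hP : IsPGroup 2 P := by
    intro ⟨σ, hσ⟩
    refine ⟨1, Subtype.ext ?_⟩
    show σ ^ 2 ^ 1 = 1
    rw [pow_one, pow_two]
    have h1 : ∀ i b, σ (σ (θ.symm (Sum.inl (i, b)))) = θ.symm (Sum.inl (i, b)) := by
      intro i b
      obtain ⟨b', hb'⟩ := hσ i b
      by_cases h : b' = b
      · rw [h] at hb'
        rw [hb', hb']
      · obtain ⟨b'', hb''⟩ := hσ i b'
        rw [hb', hb'']
        by_cases h2 : b'' = b
        · rw [h2]
        · exfalso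
          have h5 : b' = b'' := bool_third h h2
          rw [← h5] at hb''
          have h6 := σ.injective (hb'.trans hb''.symm)
          exact h (hθ2 h6).2.symm
    -- the remaining point
    have h2 : ∀ x : Fin (n % 2), σ (θ.symm (Sum.inr x)) = θ.symm (Sum.inr x) := by
      intro x
      rcases hy : θ (σ (θ.symm (Sum.inr x))) with ⟨i, b⟩ | y
      · exfalso
        have h3 : σ (θ.symm (Sum.inr x)) = θ.symm (Sum.inl (i, b)) := by
          rw [← hy, Equiv.symm_apply_apply]
        have h5 := h1 i b
        rw [← h3] at h5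
        have h6 := σ.injective h5
        obtain ⟨b', hb'⟩ := hσ i b
        have h8 : σ (θ.symm (Sum.inl (i, b))) = θ.symm (Sum.inr x) := by rw [← h3]; exact h6
        rw [h8] at hb'
        have h9 := θ.symm.injective hb'
        exact absurd h9 (by simp)
      · have h3 : σ (θ.symm (Sum.inr x)) = θ.symm (Sum.inr y) := by
          rw [← hy, Equiv.symm_apply_apply]
        rw [h3]
        have h4 : x = y := by
          have := Nat.mod_lt n (show 0 < 2 by norm_num)
          apply Fin.ext
          omega
        rw [h4]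
    ext z
    rcases hz : θ z with ⟨i, b⟩ | x
    · have h3 : z = θ.symm (Sum.inl (i, b)) := by rw [← hz, Equiv.symm_apply_apply]
      rw [h3, Perm.mul_apply, h1]
      rfl
    · have h3 : z = θ.symm (Sum.inr x) := by rw [← hz, Equiv.symm_apply_apply]
      rw [h3, Perm.mul_apply, h2, h2]
      rfl
  obtain ⟨g, hg⟩ := exists_conj_le hi hP
  refine ⟨(g⁻¹ : Perm α).trans θ, fun i => ?_⟩
  have h1 : swap (θ.symm (Sum.inl (i, false))) (θ.symm (Sum.inl (i, true))) ∈ P := by
    intro j b
    by_cases hij : j = i
    · subst hij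
      cases b
      · exact ⟨true, swap_apply_left _ _⟩
      · exact ⟨false, swap_apply_right _ _⟩
    · exact ⟨b, swap_apply_of_ne_of_ne (fun h => hij (hθ2 h).1) (fun h => hij (hθ2 h).1)⟩
  have h2 := hg _ h1
  rw [Equiv.mul_swap_eq_swap_mul, mul_inv_cancel_right] at h2
  exact h2

/-- **3'-subgroups of odd index are 2-groups** -/
theorem perm_two (n : ℕ) : ∀ (α : Type u) [Finite α], Nat.card α = n → ∀ H : Subgroup (Perm α),
    ¬ 2 ∣ H.index → ¬ 3 ∣ Nat.card H → IsPGroup 2 H := by
  induction n using Nat.strong_induction_on with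
  | _ n ih =>
  intro α _ hn H hi h3
  classical
  have : Fintype α := Fintype.ofFinite α
  have hf2 : Fact (Nat.Prime 2) := ⟨Nat.prime_two⟩
  by_cases hn0 : n = 0
  · have : IsEmpty α := by
      rw [hn0] at hn
      exact (Finite.card_eq_zero_iff).mp hn
    intro g
    exact ⟨0, Subsingleton.elim _ _⟩
  obtain ⟨θ, hθ⟩ := exists_pairs hn hi
  set pt : Fin (n / 2) → Bool → α := fun i b => θ.symm (Sum.inl (i, b)) with hpt
  have hptinj : ∀ i b j c, pt i b = pt j c → i = j ∧ b = c := by
    intro i b j c h
    have := Sum.inl.inj (θ.symm.injective h)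
    simpa using this
  let τ : Fin (n / 2) → Perm α := fun i => swap (pt i false) (pt i true)
  have hτH : ∀ i, τ i ∈ H := hθ
  have hτb : ∀ i b, τ i = swap (pt i b) (pt i (!b)) := by
    intro i b
    cases b
    · rfl
    · exact swap_comm _ _
  have hτinj : Function.Injective τ := by
    intro i j hij
    by_contra hne
    have h1 : τ i (pt i false) = pt i true := swap_apply_left _ _
    have h2 : τ j (pt i false) = pt i false := swap_apply_of_ne_of_ne
      (fun h => hne (hptinj _ _ _ _ h).1) (fun h => hne (hptinj _ _ _ _ h).1)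
    rw [hij, h2] at h1
    exact absurd (hptinj _ _ _ _ h1).2 (by simp)
  -- swaps in `H` are among the `τ i`
  have hsw : ∀ x y, x ≠ y → swap x y ∈ H → ∃ i, swap x y = τ i := by
    have key : ∀ i b y, pt i b ≠ y → swap (pt i b) y ∈ H → ∃ j, swap (pt i b) y = τ j := by
      intro i b y hne hH
      by_cases h : y = pt i (!b)
      · exact ⟨i, by rw [h, hτb i b]⟩
      · exfalso
        apply h3
        refine three_dvd_of_swaps (a := pt i b) (b := y) (c := pt i (!b)) hne ?_ h hH ?_
        · intro h4
          have := (hptinj _ _ _ _ h4).2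
          simp at this
        · rw [← hτb]; exact hτH i
    intro x y hxy hH
    rcases hx : θ x with ⟨i, b⟩ | u
    · have h4 : x = pt i b := by rw [hpt]; show x = θ.symm _; rw [← hx, Equiv.symm_apply_apply]
      rw [h4] at hH hxy ⊢
      obtain ⟨j, hj⟩ := key i b y hxy hH
      exact ⟨j, hj⟩
    · rcases hy : θ y with ⟨i, b⟩ | v
      · have h4 : y = pt i b := by rw [hpt]; show y = θ.symm _; rw [← hy, Equiv.symm_apply_apply]
        rw [h4, swap_comm] at hH ⊢
        rw [h4] at hxy
        obtain ⟨j, hj⟩ := key i b x hxy.symm hH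
        exact ⟨j, hj⟩
      · exfalso
        apply hxy
        apply θ.injective
        rw [hx, hy]
        have : u = v := by
          have := Nat.mod_lt n (show 0 < 2 by norm_num)
          apply Fin.ext
          omega
        rw [this]
  -- the action
  let B : Set (Perm α) := Set.range τ
  have hconj : ∀ h ∈ H, ∀ i, h * τ i * h⁻¹ ∈ B := by
    intro h hh i
    have h1 : h * τ i * h⁻¹ = swap (h (pt i false)) (h (pt i true)) := by
      show h * swap _ _ * h⁻¹ = _
      rw [Equiv.mul_swap_eq_swap_mul, mul_inv_cancel_right]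
    have h2 : h * τ i * h⁻¹ ∈ H := H.mul_mem (H.mul_mem hh (hτH i)) (H.inv_mem hh)
    rw [h1] at h2 ⊢
    obtain ⟨j, hj⟩ := hsw _ _ (fun h4 => by
      have := (hptinj _ _ _ _ (h.injective h4)).2
      simp at this) h2
    exact ⟨j, hj.symm⟩
  let act : MulAction H B :=
    { smul := fun h t => ⟨h * t * (h : Perm α)⁻¹, by
        obtain ⟨t, i, rfl⟩ := t
        exact hconj h h.2 i⟩
      one_smul := fun t => Subtype.ext (by
        show (1 : Perm α) * t * (1 : Perm α)⁻¹ = t
        group)
      mul_smul := fun g h t => Subtype.ext (by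
        show ((g : Perm α) * h) * t * ((g : Perm α) * h)⁻¹ = g * (h * t * (h : Perm α)⁻¹) * (g : Perm α)⁻¹
        group) }
  let φ : H →* Perm B := MulAction.toPermHom H B
  have hφ : ∀ (h : H) (t : B), ((φ h t : B) : Perm α) = h * t * (h : Perm α)⁻¹ := fun _ _ => rfl
  have hcardB : Nat.card B = n / 2 := by
    rw [Nat.card_congr (Equiv.ofInjective τ hτinj).symm, Nat.card_fin]
  -- the kernel
  have hker : ∀ h ∈ φ.ker, ∀ i b, (h : Perm α) (pt i b) = pt i b ∨ (h : Perm α) (pt i b) = pt i (!b) := by
    intro h hh i b
    have h1 : (h : Perm α) * τ i * (h : Perm α)⁻¹ = τ i := by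
      have h2 := hφ h ⟨τ i, ⟨i, rfl⟩⟩
      rw [MonoidHom.mem_ker.mp hh] at h2
      exact h2.symm
    rw [hτb i b, Equiv.mul_swap_eq_swap_mul, mul_inv_cancel_right] at h1
    have h2 : swap (pt i b) (pt i (!b)) ((h : Perm α) (pt i b)) ≠ (h : Perm α) (pt i b) := by
      rw [← h1, swap_apply_left]
      intro h4
      have := (hptinj _ _ _ _ ((h : Perm α).injective h4)).2
      simp at this
    by_contra hcon
    push Not at hcon
    exact h2 (swap_apply_of_ne_of_ne hcon.1 hcon.2)
  have hkerr : ∀ h ∈ φ.ker, ∀ x, (h : Perm α) (θ.symm (Sum.inr x)) = θ.symm (Sum.inr x) := by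
    intro h hh x
    rcases hy : θ ((h : Perm α) (θ.symm (Sum.inr x))) with ⟨i, b⟩ | y
    · exfalso
      have h4 : (h : Perm α) (θ.symm (Sum.inr x)) = pt i b := by
        rw [hpt]; show _ = θ.symm _; rw [← hy, Equiv.symm_apply_apply]
      have h5 : ∀ c, θ.symm (Sum.inr x) ≠ pt i c := by
        intro c hc
        have := θ.symm.injective hc
        simp at this
      rcases hker h hh i b with h6 | h6
      · rw [← h4] at h6
        have := (h : Perm α).injective h6
        exact h5 b (this.symm.trans h4)
      · rcases hker h hh i (!b) with h7 | h7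
        · have := (hptinj _ _ _ _ ((h : Perm α).injective (h7.trans h6.symm))).2
          simp at this
        · rw [Bool.not_not, ← h4] at h7
          exact h5 _ ((h : Perm α).injective h7).symm
    · have h4 : (h : Perm α) (θ.symm (Sum.inr x)) = θ.symm (Sum.inr y) := by
        rw [← hy, Equiv.symm_apply_apply]
      rw [h4]
      have : x = y := by
        have := Nat.mod_lt n (show 0 < 2 by norm_num)
        apply Fin.ext
        omega
      rw [this]
  have hker2 : IsPGroup 2 φ.ker := by
    intro ⟨h, hh⟩
    refine ⟨1, Subtype.ext (Subtype.ext ?_)⟩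
    show (h : Perm α) ^ 2 ^ 1 = 1
    rw [pow_one, pow_two]
    ext z
    rcases hz : θ z with ⟨i, b⟩ | x
    · have : z = pt i b := by rw [hpt]; show z = θ.symm _; rw [← hz, Equiv.symm_apply_apply]
      rw [this, Perm.mul_apply]
      rcases hker h hh i b with h6 | h6
      · rw [h6, h6]; rfl
      · rw [h6]
        rcases hker h hh i (!b) with h7 | h7
        · have := (hptinj _ _ _ _ ((h : Perm α).injective (h7.trans h6.symm))).2
          simp at this
        · rw [h7, Bool.not_not]; rfl
    · have : z = θ.symm (Sum.inr x) := by rw [← hz, Equiv.symm_apply_apply]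
      rw [this, Perm.mul_apply, hkerr h hh, hkerr h hh]
      rfl
  have hkcard : Nat.card φ.ker ≤ 2 ^ (n / 2) := by
    have h1 : Function.Injective (fun (h : φ.ker) (i : Fin (n / 2)) =>
        decide (((h : H) : Perm α) (pt i false) = pt i false)) := by
      intro h g hhg
      apply Subtype.ext
      apply Subtype.ext
      ext z
      have h4 : ∀ i, (((h : H) : Perm α) (pt i false) = pt i false ↔
          ((g : H) : Perm α) (pt i false) = pt i false) := by
        intro i
        have := congrFun hhg i
        simpa using this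
      rcases hz : θ z with ⟨i, b⟩ | x
      · have : z = pt i b := by rw [hpt]; show z = θ.symm _; rw [← hz, Equiv.symm_apply_apply]
        rw [this]
        have hf : ((h : H) : Perm α) (pt i false) = ((g : H) : Perm α) (pt i false) := by
          by_cases h5 : ((h : H) : Perm α) (pt i false) = pt i false
          · rw [h5, (h4 i).mp h5]
          · have h6 : ¬ ((g : H) : Perm α) (pt i false) = pt i false := fun h7 => h5 ((h4 i).mpr h7)
            rw [(hker h h.2 i false).resolve_left h5, (hker g g.2 i false).resolve_left h6]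
        cases b
        · exact hf
        · -- the other point
          have ht : ∀ k ∈ φ.ker, (k : Perm α) (pt i true) =
              if (k : Perm α) (pt i false) = pt i false then pt i true else pt i false := by
            intro k hk
            have h8 : (k : Perm α) (pt i true) ≠ (k : Perm α) (pt i false) := by
              intro h9
              have := (hptinj _ _ _ _ ((k : Perm α).injective h9)).2
              simp at this
            split_ifs with h7
            · rcases hker k hk i true with h9 | h9
              · exact h9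
              · exfalso
                rw [h7] at h8
                exact h8 h9
            · rcases hker k hk i true with h9 | h9
              · exfalso
                rw [(hker k hk i false).resolve_left h7] at h8
                exact h8 h9
              · exact h9
          rw [ht h h.2, ht g g.2, hf]
      · have : z = θ.symm (Sum.inr x) := by rw [← hz, Equiv.symm_apply_apply]
        rw [this, hkerr h h.2, hkerr g g.2]
    have h2 := Nat.card_le_card_of_injective _ h1
    have hb : Nat.card Bool = 2 := by simp
    rw [Nat.card_fun, Nat.card_fin, hb] at h2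
    exact h2
  obtain ⟨j, hj⟩ := hker2.exists_card_eq
  have hjle : j ≤ n / 2 := by
    rw [hj] at hkcard
    exact (Nat.pow_le_pow_iff_right (by norm_num)).mp hkcard
  -- the image
  have hcards : Nat.card φ.range * Nat.card φ.ker = Nat.card H := by
    rw [mul_comm, ← Subgroup.index_ker, Subgroup.card_mul_index]
  have hrange3 : ¬ 3 ∣ Nat.card φ.range := fun h => h3 (h.trans ⟨_, hcards.symm⟩)
  have hrangei : ¬ 2 ∣ φ.range.index := by
    intro hd
    have h1 : padicValNat 2 (Nat.card H) = padicValNat 2 n.factorial := by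
      have h4 := H.card_mul_index
      rw [Nat.card_perm, hn] at h4
      rw [← h4, padicValNat.mul Nat.card_pos.ne' H.index_ne_zero_of_finite,
        padicValNat.eq_zero_of_not_dvd hi, add_zero]
    rw [← hcards, padicValNat.mul Nat.card_pos.ne' Nat.card_pos.ne', hj, padicValNat.prime_pow,
      val_factorial] at h1
    have h2 := φ.range.card_mul_index
    rw [Nat.card_perm, hcardB] at h2
    have h5 : padicValNat 2 (n / 2).factorial =
        padicValNat 2 (Nat.card φ.range) + padicValNat 2 φ.range.index := by
      rw [← h2, padicValNat.mul Nat.card_pos.ne' φ.range.index_ne_zero_of_finite]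
    have h6 : 1 ≤ padicValNat 2 φ.range.index :=
      one_le_padicValNat_of_dvd φ.range.index_ne_zero_of_finite hd
    omega
  have hr2 := ih (n / 2) (by omega) B hcardB φ.range hrangei hrange3
  rw [IsPGroup.iff_card]
  obtain ⟨i, hi'⟩ := hr2.exists_card_eq
  exact ⟨i + j, by rw [← hcards, hi', hj, pow_add]⟩

end Cfsg.Agent.H170.Fl
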