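import Mathlib

/-!
# Skew operators on a 4-dimensional orthogonal space (helper170)
-/

set_option autoImplicit false

namespace Cfsg.Agent.H170.Fl

open Module

variable {F : Type*} [Field F] {M : Type*} [AddCommGroup M] [Module F M]

/-- `A* = s A` -/
def SkS (f : M →ₗ[F] M →ₗ[F] F) (s : F) : Submodule F (End F M) where
  carrier := {A | ∀ u v, f (A u) v = s * f u (A v)}
  zero_mem' := fun u v => by simp
  add_mem' := fun {A B} hA hB u v => by
    rw [LinearMap.add_apply, LinearMap.add_apply, map_add, map_add, LinearMap.add_apply, hA, hB, mul_add]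
  smul_mem' := fun c A hA u v => by
    rw [LinearMap.smul_apply, LinearMap.smul_apply, map_smul, map_smul, LinearMap.smul_apply, hA,
      smul_eq_mul, smul_eq_mul]
    ring

theorem mem_SkS {f : M →ₗ[F] M →ₗ[F] F} {s : F} {A : End F M} :
    A ∈ SkS f s ↔ ∀ u v, f (A u) v = s * f u (A v) := Iff.rfl

/-- the matrices -/
def kap (c : Fin 6 → F) : Fin 4 → Fin 4 → F :=
  ![![0, c 0, c 1, c 2], ![-c 0, 0, c 3, c 4], ![-c 1, -c 3, 0, c 5], ![-c 2, -c 4, -c 5, 0]]

theorem kap_skew (c : Fin 6 → F) (i j : Fin 4) : kap c j i = -kap c i j := by
  fin_cases i <;> fin_cases j <;> simp [kap]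

theorem kap_add (c d : Fin 6 → F) (i j : Fin 4) : kap (c + d) i j = kap c i j + kap d i j := by
  fin_cases i <;> fin_cases j <;> simp [kap] <;> ring

theorem kap_smul (a : F) (c : Fin 6 → F) (i j : Fin 4) : kap (a • c) i j = a * kap c i j := by
  fin_cases i <;> fin_cases j <;> simp [kap]

theorem six_le (f : M →ₗ[F] M →ₗ[F] F) (hsym : ∀ u v, f u v = f v u)
    (hnd : ∀ x, (∀ y, f y x = 0) → x = 0) (hM : finrank F M = 4) : 6 ≤ finrank F (SkS f (-1)) := by
  have hfd : FiniteDimensional F M := FiniteDimensional.of_finrank_pos (by omega)
  let b : Basis (Fin 4) F M := finBasisOfFinrankEq F M hM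
  let Θ : End F M →ₗ[F] (Fin 4 → Fin 4 → F) :=
    { toFun := fun A i j => f (A (b i)) (b j)
      map_add' := fun A B => by
        funext i j
        show f ((A + B) (b i)) (b j) = f (A (b i)) (b j) + f (B (b i)) (b j)
        rw [LinearMap.add_apply, map_add, LinearMap.add_apply]
      map_smul' := fun c A => by
        funext i j
        show f ((c • A) (b i)) (b j) = c * f (A (b i)) (b j)
        rw [LinearMap.smul_apply, map_smul, LinearMap.smul_apply, smul_eq_mul] }
  have hΘ : Function.Injective Θ := by
    rw [injective_iff_map_eq_zero]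
    intro A hA
    apply b.ext
    intro i
    rw [LinearMap.zero_apply]
    apply hnd
    intro v
    rw [hsym]
    have h1 : f (A (b i)) = 0 := by
      apply b.ext
      intro j
      exact congrFun (congrFun hA i) j
    rw [h1, LinearMap.zero_apply]
  have hdim : finrank F (End F M) = finrank F (Fin 4 → Fin 4 → F) := by
    rw [Module.finrank_linearMap, hM, Module.finrank_pi_fintype]
    simp
  have hsurj : Function.Surjective Θ := (LinearMap.injective_iff_surjective_of_finrank_eq_finrank hdim).mp hΘ
  let e := LinearEquiv.ofBijective Θ ⟨hΘ, hsurj⟩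
  let K : (Fin 6 → F) →ₗ[F] SkS f (-1) :=
    { toFun := fun c => ⟨e.symm (kap c), by
        have h1 : ∀ i j, f (e.symm (kap c) (b i)) (b j) = kap c i j := by
          intro i j
          have := e.apply_symm_apply (kap c)
          exact congrFun (congrFun this i) j
        have h2 : f ∘ₗ (e.symm (kap c) : End F M) =
            -(f.compl₂ (e.symm (kap c) : End F M)) := by
          apply b.ext
          intro i
          apply b.ext
          intro j
          show f (e.symm (kap c) (b i)) (b j) = -(f (b i) (e.symm (kap c) (b j)))
          rw [h1, hsym (b i), h1, kap_skew c i j, neg_neg]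
        intro u v
        have h3 := LinearMap.congr_fun (LinearMap.congr_fun h2 u) v
        have h4 : f (e.symm (kap c) u) v = -(f u (e.symm (kap c) v)) := h3
        rw [h4, neg_one_mul]⟩
      map_add' := fun c d => by
        apply Subtype.ext
        show e.symm (kap (c + d)) = e.symm (kap c) + e.symm (kap d)
        rw [← map_add]
        congr 1
        funext i j
        exact kap_add c d i j
      map_smul' := fun a c => by
        apply Subtype.ext
        show e.symm (kap (a • c)) = a • e.symm (kap c)
        rw [← map_smul]
        congr 1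
        funext i j
        exact kap_smul a c i j }
  have hK : Function.Injective K := by
    rw [injective_iff_map_eq_zero]
    intro c hc
    have h1 : e.symm (kap c) = 0 := congrArg Subtype.val hc
    rw [LinearEquiv.map_eq_zero_iff] at h1
    have h2 : ∀ i j, kap c i j = 0 := fun i j => congrFun (congrFun h1 i) j
    funext k
    fin_cases k
    · exact h2 0 1
    · exact h2 0 2
    · exact h2 0 3
    · exact h2 1 2
    · exact h2 1 3
    · exact h2 2 3
  have := LinearMap.finrank_le_finrank_of_injective hK
  rwa [Module.finrank_fin_fun] at this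

theorem le_six (h2 : (2 : F) ≠ 0) (f : M →ₗ[F] M →ₗ[F] F) (hsym : ∀ u v, f u v = f v u)
    (hnd : ∀ x, (∀ y, f y x = 0) → x = 0) (hM : finrank F M = 4) : finrank F (SkS f (-1)) ≤ 6 := by
  have hfd : FiniteDimensional F M := FiniteDimensional.of_finrank_pos (by omega)
  let b : Basis (Fin 4) F M := finBasisOfFinrankEq F M hM
  let p : Fin 6 → Fin 4 × Fin 4 := ![(0, 1), (0, 2), (0, 3), (1, 2), (1, 3), (2, 3)]
  let L : SkS f (-1) →ₗ[F] (Fin 6 → F) :=
    { toFun := fun A k => f ((A : End F M) (b (p k).1)) (b (p k).2)
      map_add' := fun A B => by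
        funext k
        show f (((A : End F M) + (B : End F M)) (b (p k).1)) (b (p k).2) = _ + _
        rw [LinearMap.add_apply, map_add, LinearMap.add_apply]
      map_smul' := fun c A => by
        funext k
        show f ((c • (A : End F M)) (b (p k).1)) (b (p k).2) = c * _
        rw [LinearMap.smul_apply, map_smul, LinearMap.smul_apply, smul_eq_mul] }
  have hL : Function.Injective L := by
    rw [injective_iff_map_eq_zero]
    intro A hA
    have hk : ∀ k, f ((A : End F M) (b (p k).1)) (b (p k).2) = 0 := fun k => congrFun hA k
    have hs : ∀ i j, f ((A : End F M) (b i)) (b j) = -f ((A : End F M) (b j)) (b i) := by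
      intro i j
      rw [A.2 (b i) (b j), neg_one_mul, hsym (b i)]
    have hd : ∀ i, f ((A : End F M) (b i)) (b i) = 0 := by
      intro i
      have h3 := hs i i
      have h4 : 2 * f ((A : End F M) (b i)) (b i) = 0 := by linear_combination h3
      exact (mul_eq_zero.mp h4).resolve_left h2
    have hall : ∀ i j, f ((A : End F M) (b i)) (b j) = 0 := by
      have h01 := hk 0
      have h02 := hk 1
      have h03 := hk 2
      have h12 := hk 3
      have h13 := hk 4
      have h23 := hk 5
      simp only [p, Matrix.cons_val_zero, Matrix.cons_val_one, Matrix.cons_val] at h01 h02 h03 h12 h13 h23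
      intro i j
      fin_cases i <;> fin_cases j
      · exact hd 0
      · exact h01
      · exact h02
      · exact h03
      · exact (hs 1 0).trans (by rw [h01, neg_zero])
      · exact hd 1
      · exact h12
      · exact h13
      · exact (hs 2 0).trans (by rw [h02, neg_zero])
      · exact (hs 2 1).trans (by rw [h12, neg_zero])
      · exact hd 2
      · exact h23
      · exact (hs 3 0).trans (by rw [h03, neg_zero])
      · exact (hs 3 1).trans (by rw [h13, neg_zero])
      · exact (hs 3 2).trans (by rw [h23, neg_zero])
      · exact hd 3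
    apply Subtype.ext
    apply b.ext
    intro i
    show (A : End F M) (b i) = 0
    apply hnd
    intro v
    rw [hsym]
    have h1 : f ((A : End F M) (b i)) = 0 := by
      apply b.ext
      intro j
      exact hall i j
    rw [h1, LinearMap.zero_apply]
  have := LinearMap.finrank_le_finrank_of_injective hL
  rwa [Module.finrank_fin_fun] at this

end Cfsg.Agent.H170.Fl
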