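import Cfsg.Agent.H170.Fl.Grade
import Cfsg.Agent.H170.Fl.SkewDim
import Cfsg.Agent.H170.HL.Forms
import Cfsg.Agent.H167.OP.Beta

/-!
# Elements of order prime to 6 in orthogonal groups of dimension at most four (helper170)

`cen_of_small`: `y` an `r`-element, `r ≥ 5`, normalising a 2-group `D` of isometries of a non-degenerate space of
dimension at most 4; then `y` centralises `D`.
-/

set_option autoImplicit false

namespace Cfsg.Agent.H170.Fl

open Module Cfsg.Agent.H167.OP Cfsg.Agent.H170.HL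

variable {F : Type*} [Field F] {V : Type*} [AddCommGroup V] [Module F V] {G : Type*} [Group G]
  {ρ : Representation F G V} {D : Subgroup G} {y : G} {r : ℕ}

/-- squares are central -/
theorem sq_central [Finite G] (h : MinD 2 r y D) (hnab : ∃ a ∈ D, ∃ b ∈ D, a * b ≠ b * a) {a : G}
    (ha : a ∈ D) : ∀ b ∈ D, a * a * b = b * (a * a) := by
  -- the centre
  let Z : Subgroup G :=
    { carrier := {z | z ∈ D ∧ ∀ d ∈ D, z * d = d * z}
      one_mem' := ⟨D.one_mem, fun d _ => by rw [one_mul, mul_one]⟩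
      mul_mem' := by
        rintro a b ⟨ha, ha1⟩ ⟨hb, hb1⟩
        refine ⟨D.mul_mem ha hb, fun d hd => ?_⟩
        rw [mul_assoc, hb1 d hd, ← mul_assoc, ha1 d hd, mul_assoc]
      inv_mem' := by
        rintro a ⟨ha, ha1⟩
        refine ⟨D.inv_mem ha, fun d hd => ?_⟩
        rw [inv_mul_eq_iff_eq_mul, ← mul_assoc, ha1 d hd, mul_inv_cancel_right] }
  have hZc : ∀ a ∈ D, ∀ b ∈ D, a * b * a⁻¹ * b⁻¹ ∈ Z := fun a ha b hb =>
    ⟨D.mul_mem (D.mul_mem (D.mul_mem ha hb) (D.inv_mem ha)) (D.inv_mem hb), fun d hd => h.class_two ha hb hd⟩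
  have hZn : Nrm y Z := by
    intro z hz
    have h1 := h.cen_center hnab hz.1 hz.2
    have h2 : y * z * y⁻¹ = z := by rw [h1, mul_inv_cancel_right]
    rw [h2]; exact hz
  have hcc : ∀ {a b : G}, a ∈ Z → b ∈ D → a * b = b * a := fun ha hb => ha.2 _ hb
  let D2 : Subgroup G :=
    { carrier := {d | d ∈ D ∧ d * d ∈ Z}
      one_mem' := ⟨D.one_mem, by rw [one_mul]; exact Z.one_mem⟩
      mul_mem' := by
        rintro a c ⟨ha, ha'⟩ ⟨hc, hc'⟩
        refine ⟨D.mul_mem ha hc, ?_⟩
        have h1 : a * c * (a * c) = (a * a) * (a⁻¹ * c * a⁻¹⁻¹ * c⁻¹) * (c * c) := by group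
        rw [h1]
        exact Z.mul_mem (Z.mul_mem ha' (hZc _ (D.inv_mem ha) _ hc)) hc'
      inv_mem' := by
        rintro a ⟨ha, ha'⟩
        refine ⟨D.inv_mem ha, ?_⟩
        have h1 : a⁻¹ * a⁻¹ = (a * a)⁻¹ := by group
        rw [h1]
        exact Z.inv_mem ha' }
  have hD2 : Nrm y D2 := by
    rintro d ⟨hd, hd'⟩
    refine ⟨h.nrm d hd, ?_⟩
    have h1 : y * d * y⁻¹ * (y * d * y⁻¹) = y * (d * d) * y⁻¹ := by group
    rw [h1]
    exact hZn _ hd'
  rcases h.hmin D2 (fun d hd => hd.1) hD2 with h1 | h1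
  · have : a ∈ D2 := by rw [h1]; exact ha
    exact this.2.2
  · -- then `D = Z`
    exfalso
    have h3 : ∀ d ∈ D2, d ∈ Z := by
      intro d hd
      refine h.mem_of_comm_mem hZn hZc hd.1 ?_
      rw [h1 d hd, mul_inv_cancel_right, mul_inv_cancel]
      exact Z.one_mem
    -- `D` has exponent a power of two modulo `Z`
    have key : ∀ k : ℕ, ∀ d ∈ D, d ^ 2 ^ k ∈ Z → d ∈ Z := by
      intro k
      induction k with
      | zero => intro d _ hd; rwa [pow_zero, pow_one] at hd
      | succ k ih =>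
        intro d hd hk
        have h4 : d ^ 2 ^ k ∈ Z := by
          apply h3
          refine ⟨D.pow_mem hd _, ?_⟩
          rw [← pow_add, ← two_mul, ← pow_succ']
          exact hk
        exact ih d hd h4
    obtain ⟨a, ha, b, hb, hab⟩ := hnab
    apply hab
    obtain ⟨k, hk⟩ := h.hD a ha
    exact (key k a ha (by rw [hk]; exact Z.one_mem)).2 b hb

/-- **the hard case** -/
theorem no_dim_four [Finite G] [FiniteDimensional F V] (hρ : Function.Injective ρ) (h2 : (2 : F) ≠ 0)
    (f : V →ₗ[F] V →ₗ[F] F)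
    (hf : ∀ g u v, f (ρ g u) (ρ g v) = f u v) (hsym : ∀ u v, f u v = f v u)
    (hnd : ∀ x, (∀ y, f y x = 0) → x = 0) (h4 : finrank F V ≤ 4) (hr5 : 5 ≤ r)
    (h : MinD 2 r y D) (hnab : ∃ a ∈ D, ∃ b ∈ D, a * b ≠ b * a) : False := by
  classical
  have h2' : ((2 : ℕ) : F) ≠ 0 := by exact_mod_cast h2
  have hcD : (Nat.card D : F) ≠ 0 := card_ne_zero_of_MinD h h2' (le_refl D)
  -- dimensions
  have key : ∀ a ∈ D, ∀ b ∈ D, a * b ≠ b * a → r = 5 ∧ finrank F V = 4 ∧
      rk ρ (a * b * a⁻¹ * b⁻¹) = 4 := by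
    intro a ha b hb hab
    have hc1 : ρ (a * b * a⁻¹ * b⁻¹) ≠ 1 := by
      intro h0
      apply hab
      have h2 : a * b * a⁻¹ * b⁻¹ = 1 := hρ (by rw [h0, map_one])
      have h3 : a * b = (a * b * a⁻¹ * b⁻¹) * (b * a) := by group
      rw [h3, h2, one_mul]
    obtain ⟨δ, h5, h6, ⟨k, h7⟩, h8⟩ := beta_gen ρ h h2' ha hb hc1
    have h9 : rk ρ (a * b * a⁻¹ * b⁻¹) ≤ finrank F V := Submodule.finrank_le _
    unfold rk at h9 ⊢
    have hδ4 : δ ≤ 4 := by omega
    have hδ : δ = 4 := by
      interval_cases δ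
      · exfalso
        have h10 : r ∣ 2 ^ 2 - 1 := (Nat.modEq_iff_dvd' (by norm_num)).mp h8.symm
        have := Nat.le_of_dvd (by norm_num) h10
        omega
      · exfalso
        have h10 : 3 ∣ 2 ^ k := by rw [← h7]; norm_num
        have := Nat.prime_three.dvd_of_dvd_pow h10
        omega
      · rfl
    subst hδ
    have h10 : r ∣ 15 := (Nat.modEq_iff_dvd' (by norm_num)).mp h8.symm
    have h11 : r ∣ 5 := by
      have h12 : r.Coprime 3 := by
        rw [Nat.coprime_primes h.ht Nat.prime_three]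
        omega
      exact h12.dvd_of_dvd_mul_right (show r ∣ 5 * 3 from h10)
    have h13 := Nat.le_of_dvd (by norm_num) h11
    exact ⟨by omega, by omega, by omega⟩
  obtain ⟨a₀, ha₀, b₀, hb₀, hab₀⟩ := hnab
  obtain ⟨hr, hdim, -⟩ := key a₀ ha₀ b₀ hb₀ hab₀
  subst hr
  have hnab : ∃ a ∈ D, ∃ b ∈ D, a * b ≠ b * a := ⟨a₀, ha₀, b₀, hb₀, hab₀⟩
  have hnt : Nontrivial V := Module.nontrivial_of_finrank_pos (R := F) (by omega)
  -- commutators act as `±1`
  have hcomm : ∀ a ∈ D, ∀ b ∈ D, a * b * a⁻¹ * b⁻¹ ∈ Sc ρ := by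
    intro a ha b hb
    by_cases hab : a * b = b * a
    · rw [hab, mul_inv_cancel_right, mul_inv_cancel]
      exact Subgroup.one_mem _
    · obtain ⟨-, -, hrk⟩ := key a ha b hb hab
      set c := a * b * a⁻¹ * b⁻¹ with hc
      have hcD : c ∈ D := D.mul_mem (D.mul_mem (D.mul_mem ha hb) (D.inv_mem ha)) (D.inv_mem hb)
      have hcc : c * c = 1 := by
        have h5 := sq_central h hnab ha b hb
        have h6 : ∀ x ∈ D, c * x = x * c := fun x hx => h.class_two ha hb hx
        have h7 : a * b = c * b * a := by rw [hc]; group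
        have h8 : a * a * b = c * c * (b * (a * a)) := by
          calc a * a * b = a * (a * b) := by group
            _ = a * (c * b * a) := by rw [h7]
            _ = (a * c) * b * a := by group
            _ = c * (a * b) * a := by rw [← h6 a ha]; group
            _ = c * (c * b * a) * a := by rw [h7]
            _ = _ := by group
        rw [h5] at h8
        exact (mul_eq_right.mp h8.symm)
      right
      intro v
      have hinj : Function.Injective (ρ c - 1 : End F V) := by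
        rw [← LinearMap.ker_eq_bot, ← Submodule.finrank_eq_zero]
        have h5 := LinearMap.finrank_range_add_finrank_ker (ρ c - 1)
        unfold rk at hrk
        omega
      have h5 : (ρ c - 1 : End F V) (ρ c v + v) = 0 := by
        show ρ c (ρ c v + v) - (ρ c v + v) = 0
        rw [map_add, ← mul_ap, hcc, one_ap]
        abel
      have h6 := hinj (h5.trans (map_zero _).symm)
      exact eq_neg_of_add_eq_zero_left h6
  let X : Subgroup G := Sc ρ
  have hXn : Nrm y X := fun d hd => (inferInstance : (Sc ρ).Normal).conj_mem d hd y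
  have hcen : ∀ a ∈ D, (∀ b ∈ D, a * b = b * a) → a ∈ Sc ρ := by
    intro a ha hac
    refine h.mem_of_comm_mem hXn hcomm ha ?_
    rw [h.cen_center hnab ha hac, mul_inv_cancel_right, mul_inv_cancel]
    exact Subgroup.one_mem _
  have hgr : Gr ρ D := ⟨hρ, h2, hcD, hcomm, hcen⟩
  have : Fintype D := Fintype.ofFinite D
  have : Fintype (Gr.QQ ρ D) := Fintype.ofFinite _
  have hfe := hgr.finrank_end
  rw [hdim] at hfe
  -- `|Q| = 16`
  have hQcard : Fintype.card (Gr.QQ ρ D) = 16 ∧ finrank F (Cm ρ D) = 1 := by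
    have h5 := h.relIndex_modEq hXn hcomm
    have h6 : X.relIndex D = Fintype.card (Gr.QQ ρ D) := by
      rw [← Nat.card_eq_fintype_card]; rfl
    rw [h6] at h5
    have h7 : Fintype.card (Gr.QQ ρ D) ∣ 16 := ⟨_, hfe⟩
    have h8 : Fintype.card (Gr.QQ ρ D) ≠ 1 := by
      intro h1
      apply hab₀
      have h9 : Subsingleton (Gr.QQ ρ D) := Fintype.card_le_one_iff_subsingleton.mp h1.le
      have h10 : (QuotientGroup.mk (⟨a₀, ha₀⟩ : D) : Gr.QQ ρ D) = 1 := Subsingleton.elim _ _
      rw [QuotientGroup.eq_one_iff, Subgroup.mem_subgroupOf] at h10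
      exact (Sc_comm hρ h10 b₀).symm
    have h9 : Fintype.card (Gr.QQ ρ D) ≤ 16 := Nat.le_of_dvd (by norm_num) h7
    have h10 : Fintype.card (Gr.QQ ρ D) = 16 := by
      generalize Fintype.card (Gr.QQ ρ D) = q at *
      interval_cases q <;> first | rfl | (exfalso; revert h5 h7 h8; decide)
    refine ⟨h10, ?_⟩
    rw [h10] at hfe
    omega
  obtain ⟨hQ16, hC1⟩ := hQcard
  -- the commutant consists of scalars
  have hscal : ∀ B ∈ Cm ρ D, ∃ c : F, B = c • (1 : End F V) := by
    intro B hB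
    have h1m : (1 : End F V) ∈ Cm ρ D := fun b _ => by rw [mul_one, one_mul]
    have h5 : (⟨1, h1m⟩ : Cm ρ D) ≠ 0 := fun h0 => one_ne_zero (congrArg Subtype.val h0)
    obtain ⟨c, hc⟩ := (finrank_eq_one_iff_of_nonzero' _ h5).mp hC1 ⟨B, hB⟩
    exact ⟨c, (congrArg Subtype.val hc).symm⟩
  have hsqS : ∀ a ∈ D, a * a ∈ Sc ρ := fun a ha =>
    hcen _ (D.mul_mem ha ha) (fun b hb => sq_central h hnab ha b hb)
  let sq : Gr.QQ ρ D → F := fun q => sg ρ (Gr.rp ρ D q * Gr.rp ρ D q)
  have hsq1 : ∀ q, sq q = 1 ∨ sq q = -1 := fun q => mul_self_eq_one_iff.mp (sg_sq _)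
  have hadj : ∀ q u v, f (ρ (Gr.rp ρ D q) u) v = sq q * f u (ρ (Gr.rp ρ D q) v) := by
    intro q u v
    set n := Gr.rp ρ D q with hn
    have hnD : n ∈ D := Gr.rp_mem q
    have h5 := hf n u (ρ n⁻¹ v)
    rw [ap_inv] at h5
    have h6 : ρ n⁻¹ v = sq q • ρ n v := by
      have h7 : ρ n (ρ n v) = sq q • v := by
        rw [← mul_ap]
        exact sg_smul (hsqS n hnD) v
      have h8 : ρ n⁻¹ (ρ n (ρ n v)) = ρ n v := inv_ap ρ n _
      rw [h7, map_smul] at h8
      rw [← h8, smul_smul]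
      have : sq q * sq q = 1 := sg_sq _
      rw [this, one_smul]
    rw [h5, h6, map_smul, smul_eq_mul]
  -- coefficients
  have hco : ∀ (B : Gr.QQ ρ D → Cm ρ D), ∃ c : Gr.QQ ρ D → F, ∀ q, (B q : End F V) = c q • (1 : End F V) := by
    intro B
    choose c hc using fun q => hscal (B q) (B q).2
    exact ⟨c, hc⟩
  have hPhi : ∀ (B : Gr.QQ ρ D → Cm ρ D) (c : Gr.QQ ρ D → F),
      (∀ q, (B q : End F V) = c q • (1 : End F V)) →
      Gr.Phi ρ D B = ∑ q, c q • ρ (Gr.rp ρ D q) := by
    intro B c hc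
    show ∑ q, ρ (Gr.rp ρ D q) * (B q : End F V) = _
    refine Finset.sum_congr rfl fun q _ => ?_
    rw [hc, mul_smul_comm, mul_one]
  have h1m : (1 : End F V) ∈ Cm ρ D := fun b _ => by rw [mul_one, one_mul]
  have hsum0 : ∀ c : Gr.QQ ρ D → F, ∑ q, c q • ρ (Gr.rp ρ D q) = 0 → ∀ q, c q = 0 := by
    intro c hc q
    have h5 := hPhi (fun q => c q • ⟨1, h1m⟩) c (fun q => rfl)
    rw [hc] at h5
    have h6 := hgr.Psi_Phi (fun q => c q • (⟨1, h1m⟩ : Cm ρ D))
    rw [h5, map_zero] at h6
    have h7 := congrArg Subtype.val (congrFun h6 q)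
    have h8 : (0 : End F V) = c q • (1 : End F V) := h7
    exact (smul_eq_zero.mp h8.symm).resolve_right one_ne_zero
  let Qm := {q : Gr.QQ ρ D // sq q = -1}
  have : Fintype Qm := Fintype.ofFinite _
  -- `m ≤ 6`
  have hle : Fintype.card Qm ≤ 6 := by
    let K : (Qm → F) →ₗ[F] SkS f (-1) :=
      { toFun := fun c => ⟨∑ q : Qm, c q • ρ (Gr.rp ρ D q), by
          intro u v
          rw [LinearMap.sum_apply, LinearMap.sum_apply, map_sum, map_sum, LinearMap.sum_apply,
            Finset.mul_sum]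
          refine Finset.sum_congr rfl fun q _ => ?_
          rw [LinearMap.smul_apply, LinearMap.smul_apply, map_smul, map_smul, LinearMap.smul_apply, hadj,
            q.2, smul_eq_mul, smul_eq_mul]
          ring⟩
        map_add' := fun c d => by
          apply Subtype.ext
          show ∑ q : Qm, (c q + d q) • ρ (Gr.rp ρ D q) = _ + _
          rw [← Finset.sum_add_distrib]
          exact Finset.sum_congr rfl fun q _ => add_smul _ _ _
        map_smul' := fun a c => by
          apply Subtype.ext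
          show ∑ q : Qm, (a * c q) • ρ (Gr.rp ρ D q) = a • ∑ q : Qm, c q • ρ (Gr.rp ρ D q)
          rw [Finset.smul_sum]
          exact Finset.sum_congr rfl fun q _ => mul_smul _ _ _ }
    have hK : Function.Injective K := by
      rw [injective_iff_map_eq_zero]
      intro c hc
      have h5 : ∑ q : Qm, c q • ρ (Gr.rp ρ D q) = 0 := congrArg Subtype.val hc
      have h6 : ∑ q : Gr.QQ ρ D, (if h : sq q = -1 then c ⟨q, h⟩ else 0) • ρ (Gr.rp ρ D q) = 0 := by
        rw [← h5]
        symm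
        refine Fintype.sum_of_injective (fun q : Qm => q.1) Subtype.val_injective _ _ ?_ ?_
        · intro q hq
          have h6 : sq q ≠ -1 := fun h0 => hq ⟨⟨q, h0⟩, rfl⟩
          rw [dif_neg h6, zero_smul]
        · intro q
          rw [dif_pos q.2]
      funext q
      have h7 := hsum0 _ h6 q
      rw [dif_pos q.2] at h7
      exact h7
    have h5 := LinearMap.finrank_le_finrank_of_injective hK
    rw [Module.finrank_fintype_fun_eq_card] at h5
    exact h5.trans (le_six h2 f hsym hnd hdim)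
  -- `6 ≤ m`
  have hge : 6 ≤ Fintype.card Qm := by
    let L : SkS f (-1) →ₗ[F] (Qm → Cm ρ D) :=
      { toFun := fun A q => hgr.Psi (A : End F V) q
        map_add' := fun A B => by
          funext q
          show hgr.Psi ((A : End F V) + (B : End F V)) q = _
          rw [map_add]
          rfl
        map_smul' := fun a A => by
          funext q
          show hgr.Psi (a • (A : End F V)) q = _
          rw [map_smul]
          rfl }
    have hL : Function.Injective L := by
      rw [injective_iff_map_eq_zero]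
      intro A hA
      obtain ⟨c, hc⟩ := hco (hgr.Psi (A : End F V))
      have h5 : (A : End F V) = ∑ q, c q • ρ (Gr.rp ρ D q) := by
        rw [← hPhi _ c hc, hgr.Phi_Psi]
      have h6 : ∑ q, ((sq q + 1) * c q) • ρ (Gr.rp ρ D q) = 0 := by
        apply LinearMap.ext
        intro v
        rw [LinearMap.zero_apply]
        apply hnd
        intro u
        have h7 := A.2 u v
        rw [h5, LinearMap.sum_apply, LinearMap.sum_apply, map_sum, map_sum, LinearMap.sum_apply,
          neg_one_mul] at h7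
        rw [LinearMap.sum_apply, map_sum]
        have h8 : ∀ q, f u ((((sq q + 1) * c q) • ρ (Gr.rp ρ D q)) v) =
            f ((c q • ρ (Gr.rp ρ D q)) u) v + f u ((c q • ρ (Gr.rp ρ D q)) v) := by
          intro q
          simp only [LinearMap.smul_apply, map_smul, hadj, smul_eq_mul]
          ring
        rw [Finset.sum_congr rfl fun q _ => h8 q, Finset.sum_add_distrib, h7, neg_add_cancel]
      have h7 := hsum0 _ h6
      have h8 : ∀ q, c q = 0 := by
        intro q
        rcases hsq1 q with h9 | h9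
        · have h10 := h7 q
          simp only [h9, one_add_one_eq_two] at h10
          exact (mul_eq_zero.mp h10).resolve_left h2
        · have h10 : hgr.Psi (A : End F V) q = 0 := congrFun hA ⟨q, h9⟩
          have h11 := hc q
          rw [h10] at h11
          exact (smul_eq_zero.mp (show c q • (1 : End F V) = 0 from h11.symm)).resolve_right one_ne_zero
      apply Subtype.ext
      show (A : End F V) = 0
      rw [h5]
      exact Finset.sum_eq_zero fun q _ => by rw [h8, zero_smul]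
    have h5 := LinearMap.finrank_le_finrank_of_injective hL
    rw [Module.finrank_pi_fintype, Finset.sum_const, Finset.card_univ, smul_eq_mul, hC1, mul_one] at h5
    exact (six_le f hsym hnd hdim).trans h5
  -- `5 ∣ m`
  have h5m : 5 ∣ Fintype.card Qm := by
    have hmksq : ∀ (a : G) (ha : a ∈ D), sq (QuotientGroup.mk ⟨a, ha⟩) = sg ρ (a * a) := by
      intro a ha
      set n := Gr.rp ρ D (QuotientGroup.mk ⟨a, ha⟩) with hn
      have hs : n⁻¹ * a ∈ Sc ρ := Gr.rp_inv_mul ha
      show sg ρ (n * n) = _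
      congr 1
      have h5 : a = n * (n⁻¹ * a) := by group
      have h6 : (n⁻¹ * a) * (n⁻¹ * a) = 1 := Sc_sq hρ hs
      have h7 := Sc_comm hρ hs n
      calc n * n = n * n * ((n⁻¹ * a) * (n⁻¹ * a)) := by rw [h6, mul_one]
        _ = n * (n * (n⁻¹ * a)) * (n⁻¹ * a) := by group
        _ = n * ((n⁻¹ * a) * n) * (n⁻¹ * a) := by rw [h7]
        _ = a * a := by group
    have hyD : ∀ a ∈ D, y * a * y⁻¹ ∈ D := h.nrm
    let g : Qm → Qm := fun q => ⟨QuotientGroup.mk ⟨y * Gr.rp ρ D q * y⁻¹, hyD _ (Gr.rp_mem _)⟩, by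
      rw [hmksq]
      have h5 : y * Gr.rp ρ D q.1 * y⁻¹ * (y * Gr.rp ρ D q.1 * y⁻¹) =
          y * (Gr.rp ρ D q.1 * Gr.rp ρ D q.1) * y⁻¹ := by group
      rw [h5, Sc_comm hρ (hsqS _ (Gr.rp_mem q.1)) y, mul_inv_cancel_right]
      exact q.2⟩
    -- iterates
    have hiter : ∀ (n : ℕ) (q : Qm), (g^[n] q).1 =
        QuotientGroup.mk ⟨y ^ n * Gr.rp ρ D q * (y ^ n)⁻¹, by
          have := (h.al)^[n] ⟨Gr.rp ρ D q, Gr.rp_mem _⟩
          rw [← h.coe_al_iterate ⟨Gr.rp ρ D q, Gr.rp_mem _⟩ n]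
          exact Subtype.mem _⟩ := by
      intro n q
      induction n with
      | zero =>
        rw [Function.iterate_zero, id]
        conv_lhs => rw [← Gr.mk_rp q.1]
        congr 1
        apply Subtype.ext
        simp
      | succ n ih =>
        rw [Function.iterate_succ_apply']
        show (QuotientGroup.mk ⟨y * Gr.rp ρ D (g^[n] q).1 * y⁻¹, _⟩ : Gr.QQ ρ D) = _
        rw [QuotientGroup.eq, Subgroup.mem_subgroupOf]
        have h6 : (Gr.rp ρ D (g^[n] q).1)⁻¹ * (y ^ n * Gr.rp ρ D q * (y ^ n)⁻¹) ∈ Sc ρ := by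
          rw [ih]
          exact Gr.rp_inv_mul _
        have h7 := (inferInstance : (Sc ρ).Normal).conj_mem _ h6 y
        show (y * Gr.rp ρ D (g^[n] q).1 * y⁻¹)⁻¹ * (y ^ (n + 1) * Gr.rp ρ D q * (y ^ (n + 1))⁻¹) ∈ Sc ρ
        convert h7 using 1
        rw [pow_succ']
        group
    obtain ⟨a, ha⟩ := h.hy
    let g' : Function.End Qm := g
    have hga : g' ^ 5 ^ a = 1 := by
      funext q
      have h0 : (g' ^ 5 ^ a : Function.End Qm) = g^[5 ^ a] :=
        hom_coe_pow (fun g : Function.End Qm ↦ g) rfl (fun _ _ ↦ rfl) g' (5 ^ a)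
      rw [h0]
      apply Subtype.ext
      rw [hiter]
      show _ = q.1
      conv_rhs => rw [← Gr.mk_rp q.1]
      congr 1
      apply Subtype.ext
      show y ^ 5 ^ a * Gr.rp ρ D q * (y ^ 5 ^ a)⁻¹ = _
      rw [ha]
      group
    have : Fact (Nat.Prime 5) := ⟨Nat.prime_five⟩
    have hmod := Equiv.Perm.card_fixedPoints_modEq (f := g') (p := 5) hga
    have hemp : Fintype.card (Function.fixedPoints g') = 0 := by
      rw [Fintype.card_eq_zero_iff]
      refine ⟨fun ⟨q, hq⟩ => ?_⟩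
      have h5 : g q = q := hq
      have h6 := congrArg Subtype.val h5
      have h7 : (QuotientGroup.mk ⟨y * Gr.rp ρ D q * y⁻¹, hyD _ (Gr.rp_mem _)⟩ : Gr.QQ ρ D) = q.1 := h6
      have h7' := (h7.trans (Gr.mk_rp q.1).symm).symm
      rw [QuotientGroup.eq, Subgroup.mem_subgroupOf] at h7'
      set n := Gr.rp ρ D q.1 with hn
      have h8 : n⁻¹ * (y * n * y⁻¹) ∈ Sc ρ := h7'
      have h9 := (inferInstance : (Sc ρ).Normal).conj_mem _ h8 n
      have h10 : n * (n⁻¹ * (y * n * y⁻¹)) * n⁻¹ = y * n * y⁻¹ * n⁻¹ := by group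
      rw [h10] at h9
      have h11 : n ∈ Sc ρ := h.mem_of_comm_mem hXn hcomm (Gr.rp_mem q.1) h9
      have h12 : sq q.1 = 1 := by
        show sg ρ (n * n) = 1
        rw [Sc_sq hρ h11, sg_one]
      rw [q.2] at h12
      apply h2
      linear_combination -h12
    rw [hemp] at hmod
    exact (Nat.modEq_zero_iff_dvd).mp hmod
  omega

/-- **(A), faithful version** -/
theorem cen_of_small [Finite G] [FiniteDimensional F V] (hρ : Function.Injective ρ) (h2 : (2 : F) ≠ 0)
    (f : V →ₗ[F] V →ₗ[F] F)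
    (hf : ∀ g u v, f (ρ g u) (ρ g v) = f u v) (hsym : ∀ u v, f u v = f v u)
    (hnd : ∀ x, (∀ y, f y x = 0) → x = 0) (h4 : finrank F V ≤ 4) (hr : r.Prime) (hr5 : 5 ≤ r)
    {B : Subgroup G} (hB : IsPGroup 2 B) {k : ℕ} (hy : y ^ r ^ k = 1) (hn : Nrm y B) : Cen y B := by
  by_contra hc
  obtain ⟨D, hDB, hD⟩ := exists_minD Nat.prime_two hr (by omega : (2 : ℕ) ≠ r) (B := B) (y := y)
    (fun d hd => by
      obtain ⟨k, hk⟩ := hB ⟨d, hd⟩
      exact ⟨k, congrArg Subtype.val hk⟩) ⟨k, hy⟩ hn hc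
  have h2' : ((2 : ℕ) : F) ≠ 0 := by exact_mod_cast h2
  by_cases hab : ∀ a ∈ D, ∀ b ∈ D, a * b = b * a
  · obtain ⟨a, ha, hay⟩ := hD.exists_ncomm
    obtain ⟨E, -, -, hV, hle⟩ := alpha2 ρ hD (by omega) h2' hab ⟨a, ha, by
      intro h1
      apply hay
      have : a = 1 := hρ (by rw [h1, map_one])
      rw [this, mul_one, one_mul]⟩
    have h5 : 1 ≤ finrank F (VE ρ E D) := by
      rw [Nat.one_le_iff_ne_zero]
      intro h0
      exact hV (Submodule.finrank_eq_zero.mp h0)
    have h6 := Submodule.finrank_le (CV ρ D)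
    nlinarith
  · push Not at hab
    exact no_dim_four hρ h2 f hf hsym hnd h4 hr5 hD hab

end Cfsg.Agent.H170.Fl
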