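import Cfsg.Agent.H170.Fl.Ext

/-!
# The group is not solvable (helper170)
-/

set_option autoImplicit false

namespace Cfsg.Agent.H170.Fl

open Module Cfsg.Agent.H167.OP Cfsg.Agent.H170.HL

variable {F : Type*} [Field F] {V : Type*} [AddCommGroup V] [Module F V] {G : Type*} [Group G]
  {ρ : Representation F G V} {R R' : Subgroup G}

/-- normal subgroups of class two modulo `±1` -/
theorem Hyp.le_Sc [Finite G] (h : Hyp ρ R R') {M : Subgroup G} (hM : M.Normal)
    (hc : ∀ a ∈ M, ∀ b ∈ M, a * b * a⁻¹ * b⁻¹ ∈ Sc ρ) : M ≤ Sc ρ := by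
  classical
  refine h.two_core hM ?_
  -- `M` is a 2-group
  have hcen : ∀ r : ℕ, Odd r → ∀ m ∈ M, m ^ r = 1 → ∀ m' ∈ M, m * m' = m' * m := by
    intro r hr m hm hmr m' hm'
    set c := m * m' * m⁻¹ * m'⁻¹ with hcdef
    have hcS : c ∈ Sc ρ := hc m hm m' hm'
    have hcc : c * c = 1 := Sc_sq h.inj hcS
    have h1 : m' * m * m'⁻¹ = c⁻¹ * m := by rw [hcdef]; group
    have h2 : (c⁻¹ * m) ^ r = 1 := by rw [← h1, conj_pow, hmr, mul_one, mul_inv_cancel]
    have h3 : Commute c⁻¹ m := (Commute.inv_left (show Commute c m from (Sc_comm h.inj hcS m).symm))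
    rw [h3.mul_pow, hmr, mul_one, inv_pow, inv_eq_one] at h2
    have h4 : c = 1 := by
      obtain ⟨k, rfl⟩ := hr
      rw [pow_succ, pow_mul, pow_two, hcc, one_pow, one_mul] at h2
      exact h2
    have h5 : m * m' = c * (m' * m) := by rw [hcdef]; group
    rw [h5, h4, one_mul]
  rw [IsPGroup.iff_card]
  refine ⟨_, Nat.eq_prime_pow_of_unique_prime_dvd Nat.card_pos.ne' fun {r} hr hd => ?_⟩
  by_contra hr2
  have hodd : Odd r := hr.odd_of_ne_two hr2
  have : Fact r.Prime := ⟨hr⟩
  obtain ⟨⟨m, hm⟩, hmo⟩ := exists_prime_orderOf_dvd_card' (G := M) r hd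
  rw [Subgroup.orderOf_mk] at hmo
  have hmr : m ^ r = 1 := by rw [← hmo, pow_orderOf_eq_one]
  let A : Subgroup G :=
    { carrier := {d | d ∈ M ∧ d ^ r = 1}
      one_mem' := ⟨M.one_mem, one_pow _⟩
      mul_mem' := by
        rintro a b ⟨ha, ha1⟩ ⟨hb, hb1⟩
        refine ⟨M.mul_mem ha hb, ?_⟩
        rw [(show Commute a b from hcen r hodd a ha ha1 b hb).mul_pow, ha1, hb1, one_mul]
      inv_mem' := by
        rintro a ⟨ha, ha1⟩
        exact ⟨M.inv_mem ha, by rw [inv_pow, ha1, inv_one]⟩ }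
  have hA : A.Normal := by
    refine ⟨?_⟩
    rintro a ⟨ha, ha'⟩ g
    exact ⟨hM.conj_mem a ha g, by rw [conj_pow, ha', mul_one, mul_inv_cancel]⟩
  have h1 : m ∈ Sc ρ := h.elem hr (A := A) (fun x hx y hy => hcen r hodd x hx.1 hx.2 y hy.1)
    (fun x hx => hx.2) ⟨hm, hmr⟩
  have h2 : m * m = 1 := Sc_sq h.inj h1
  obtain ⟨k, hk⟩ := hodd
  have h3 : m = 1 := by
    rw [hk, pow_succ, pow_mul, pow_two, h2, one_pow, one_mul] at hmr
    exact hmr
  rw [h3, orderOf_one] at hmo
  exact hr.one_lt.ne hmo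

/-- **the contradiction for solvable groups** -/
theorem Hyp.not_solvable [Finite G] (h : Hyp ρ R R') (hs : Group.IsSolvable G) : False := by
  have hfd := h.finDim
  obtain ⟨n, hn⟩ := hs.solvable
  have key : ∀ k, k ≤ n → derivedSeries G (n - k) ≤ Sc ρ := by
    intro k
    induction k with
    | zero => intro _; rw [Nat.sub_zero, hn]; exact bot_le
    | succ k ih =>
      intro hk
      have h1 := ih (by omega)
      refine h.le_Sc (derivedSeries_normal G _) fun a ha b hb => h1 ?_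
      have h2 : n - k = (n - (k + 1)) + 1 := by omega
      rw [h2, derivedSeries_succ]
      exact Subgroup.commutator_mem_commutator ha hb
  have htop : (⊤ : Subgroup G) ≤ Sc ρ := by
    have := key n le_rfl
    rwa [Nat.sub_self, derivedSeries_zero] at this
  -- a line
  have := h.nontriv
  obtain ⟨v, hv⟩ := exists_ne (0 : V)
  rcases h.irr (F ∙ v) (by
    intro g m hm
    rcases htop (Subgroup.mem_top g) with hg | hg
    · rw [hg]; exact hm
    · rw [hg]; exact Submodule.neg_mem _ hm) with h1 | h1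
  · rw [Submodule.span_singleton_eq_bot] at h1
    exact hv h1
  · have h2 := finrank_span_singleton (K := F) hv
    rw [h1, finrank_top] at h2
    have := h.five
    omega

end Cfsg.Agent.H170.Fl
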