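import Cfsg.Agent.H170.Fl.AbNormal

/-!
# Normal 2-subgroups: reduction to class two (helper170)
-/

set_option autoImplicit false

namespace Cfsg.Agent.H170.Fl

open Module Cfsg.Agent.H167.OP Cfsg.Agent.H170.HL

section grp

variable {G : Type*} [Group G] [Finite G]

/-- a minimal normal 2-subgroup outside a normal subgroup `Z` -/
theorem exists_minN (Z : Subgroup G) [hZ : Z.Normal] {P : Subgroup G} (hPn : P.Normal)
    (hP : IsPGroup 2 P) (hPZ : ¬ P ≤ Z) :
    ∃ N : Subgroup G, N.Normal ∧ IsPGroup 2 N ∧ ¬ N ≤ Z ∧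
      (∀ a ∈ N, ∀ b ∈ N, a * b * a⁻¹ * b⁻¹ ∈ Z) ∧ ∀ a ∈ N, a * a ∈ Z := by
  classical
  let S : Set (Subgroup G) := {N | N.Normal ∧ IsPGroup 2 N ∧ ¬ N ≤ Z}
  obtain ⟨N, ⟨hNn, hN, hNZ⟩, hmin⟩ := (Set.toFinite S).exists_minimal ⟨P, hPn, hP, hPZ⟩
  have hmin' : ∀ M : Subgroup G, M.Normal → M ≤ N → ¬ M ≤ Z → M = N := by
    intro M hM hMN hMZ
    exact le_antisymm hMN (hmin ⟨hM, hN.to_le hMN, hMZ⟩ hMN)
  -- the quotient
  let Q := N ⧸ Z.subgroupOf N
  have hQ : IsPGroup 2 Q := hN.to_quotient _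
  have hnt : Nontrivial Q := by
    rw [← not_subsingleton_iff_nontrivial]
    intro hs
    apply hNZ
    intro a ha
    have h1 : (QuotientGroup.mk (⟨a, ha⟩ : N) : Q) = 1 := Subsingleton.elim _ _
    rw [QuotientGroup.eq_one_iff, Subgroup.mem_subgroupOf] at h1
    exact h1
  have hmk : ∀ a : N, (QuotientGroup.mk a : Q) = 1 ↔ (a : G) ∈ Z := by
    intro a
    rw [QuotientGroup.eq_one_iff, Subgroup.mem_subgroupOf]
  have hcomm : ∀ a ∈ N, ∀ b ∈ N, a * b * a⁻¹ * b⁻¹ ∈ Z := by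
    let M : Subgroup G :=
      { carrier := {a | a ∈ N ∧ ∀ b ∈ N, a * b * a⁻¹ * b⁻¹ ∈ Z}
        one_mem' := ⟨N.one_mem, fun b _ => by simp⟩
        mul_mem' := by
          rintro a c ⟨ha, ha'⟩ ⟨hc, hc'⟩
          refine ⟨N.mul_mem ha hc, fun b hb => ?_⟩
          have h1 : a * c * b * (a * c)⁻¹ * b⁻¹ = a * (c * b * c⁻¹ * b⁻¹) * a⁻¹ * (a * b * a⁻¹ * b⁻¹) := by
            group
          rw [h1]
          exact Z.mul_mem (hZ.conj_mem _ (hc' b hb) a) (ha' b hb)
        inv_mem' := by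
          rintro a ⟨ha, ha'⟩
          refine ⟨N.inv_mem ha, fun b hb => ?_⟩
          have h1 : a⁻¹ * b * a⁻¹⁻¹ * b⁻¹ = a⁻¹ * (a * b * a⁻¹ * b⁻¹)⁻¹ * a⁻¹⁻¹ := by group
          rw [h1]
          exact hZ.conj_mem _ (Z.inv_mem (ha' b hb)) a⁻¹ }
    have hMn : M.Normal := by
      refine ⟨?_⟩
      rintro a ⟨ha, ha'⟩ g
      refine ⟨hNn.conj_mem a ha g, fun b hb => ?_⟩
      have h1 : g * a * g⁻¹ * b * (g * a * g⁻¹)⁻¹ * b⁻¹ =
          g * (a * (g⁻¹ * b * g) * a⁻¹ * (g⁻¹ * b * g)⁻¹) * g⁻¹ := by group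
      rw [h1]
      exact hZ.conj_mem _ (ha' _ ((mem_norm_iff g b).mp hb)) g
    have hMZ : ¬ M ≤ Z := by
      intro hle
      have hc := hQ.center_nontrivial
      obtain ⟨⟨q, hq⟩, hq1⟩ := exists_ne (1 : Subgroup.center Q)
      obtain ⟨a, rfl⟩ := QuotientGroup.mk_surjective q
      apply hq1
      apply Subtype.ext
      show (QuotientGroup.mk a : Q) = 1
      rw [hmk]
      apply hle
      refine ⟨a.2, fun b hb => ?_⟩
      have h1 := Subgroup.mem_center_iff.mp hq (QuotientGroup.mk ⟨b, hb⟩)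
      have h2 : (QuotientGroup.mk (a * ⟨b, hb⟩ * a⁻¹ * (⟨b, hb⟩ : N)⁻¹) : Q) = 1 := by
        rw [QuotientGroup.mk_mul, QuotientGroup.mk_mul, QuotientGroup.mk_mul, QuotientGroup.mk_inv,
          QuotientGroup.mk_inv, ← h1, mul_inv_cancel_right, mul_inv_cancel]
      rw [hmk] at h2
      exact h2
    have hMN := hmin' M hMn (fun x hx => hx.1) hMZ
    intro a ha b hb
    rw [← hMN] at ha
    exact ha.2 b hb
  refine ⟨N, hNn, hN, hNZ, hcomm, ?_⟩
  let M : Subgroup G :=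
    { carrier := {a | a ∈ N ∧ a * a ∈ Z}
      one_mem' := ⟨N.one_mem, by simp⟩
      mul_mem' := by
        rintro a c ⟨ha, ha'⟩ ⟨hc, hc'⟩
        refine ⟨N.mul_mem ha hc, ?_⟩
        have h1 : a * c * (a * c) = (a * a) * (a⁻¹ * c * a⁻¹⁻¹ * c⁻¹) * (c * c) := by group
        rw [h1]
        exact Z.mul_mem (Z.mul_mem ha' (hcomm _ (N.inv_mem ha) _ hc)) hc'
      inv_mem' := by
        rintro a ⟨ha, ha'⟩
        refine ⟨N.inv_mem ha, ?_⟩
        have h1 : a⁻¹ * a⁻¹ = (a * a)⁻¹ := by group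
        rw [h1]
        exact Z.inv_mem ha' }
  have hMn : M.Normal := by
    refine ⟨?_⟩
    rintro a ⟨ha, ha'⟩ g
    refine ⟨hNn.conj_mem a ha g, ?_⟩
    have h1 : g * a * g⁻¹ * (g * a * g⁻¹) = g * (a * a) * g⁻¹ := by group
    rw [h1]
    exact hZ.conj_mem _ ha' g
  have hMZ : ¬ M ≤ Z := by
    intro hle
    have h2 : 2 ∣ Nat.card Q := by
      obtain ⟨n, hn⟩ := hQ.exists_card_eq
      have h3 : 1 < Nat.card Q := Finite.one_lt_card
      rw [hn] at h3 ⊢
      rcases n with _ | n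
      · simp at h3
      · exact dvd_pow_self 2 (Nat.succ_ne_zero n)
    have : Fact (Nat.Prime 2) := ⟨Nat.prime_two⟩
    obtain ⟨q, hq⟩ := exists_prime_orderOf_dvd_card' (G := Q) 2 h2
    obtain ⟨a, rfl⟩ := QuotientGroup.mk_surjective q
    have h3 : (a : G) ∈ Z := by
      apply hle
      refine ⟨a.2, ?_⟩
      have h4 : (QuotientGroup.mk (a * a) : Q) = 1 := by
        rw [QuotientGroup.mk_mul, ← pow_two, ← hq, pow_orderOf_eq_one]
      rw [hmk] at h4
      exact h4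
    rw [← hmk] at h3
    rw [h3, orderOf_one] at hq
    norm_num at hq
  have hMN := hmin' M hMn (fun x hx => hx.1) hMZ
  intro a ha
  rw [← hMN] at ha
  exact ha.2

end grp

variable {F : Type*} [Field F] {V : Type*} [AddCommGroup V] [Module F V] {G : Type*} [Group G]
  {ρ : Representation F G V} {R R' : Subgroup G}

/-- the elements acting as `±1` -/
def Sc (ρ : Representation F G V) : Subgroup G where
  carrier := {g | (∀ v, ρ g v = v) ∨ (∀ v, ρ g v = -v)}
  one_mem' := Or.inl fun v => one_ap ρ v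
  mul_mem' := by
    rintro a b (ha | ha) (hb | hb)
    · exact Or.inl fun v => by rw [mul_ap, hb, ha]
    · exact Or.inr fun v => by rw [mul_ap, hb, ha]
    · exact Or.inr fun v => by rw [mul_ap, hb, ha]
    · exact Or.inl fun v => by rw [mul_ap, hb, ha, neg_neg]
  inv_mem' := by
    rintro a (ha | ha)
    · exact Or.inl fun v => by conv_lhs => rw [← ha v, inv_ap]
    · refine Or.inr fun v => ?_
      have h1 := inv_ap ρ a v
      rw [ha, map_neg] at h1
      exact neg_eq_iff_eq_neg.mp h1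

theorem mem_Sc {g : G} : g ∈ Sc ρ ↔ (∀ v, ρ g v = v) ∨ (∀ v, ρ g v = -v) := Iff.rfl

instance instScNormal : (Sc ρ).Normal := by
  refine ⟨?_⟩
  rintro a (ha | ha) g
  · exact Or.inl fun v => by rw [mul_ap, mul_ap, ha, ap_inv]
  · exact Or.inr fun v => by rw [mul_ap, mul_ap, ha, map_neg, ap_inv]

theorem Sc_comm (hρ : Function.Injective ρ) {a : G} (ha : a ∈ Sc ρ) (g : G) : g * a = a * g := by
  apply hρ
  apply LinearMap.ext
  intro v
  rw [mul_ap, mul_ap]
  rcases ha with ha | ha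
  · rw [ha, ha]
  · rw [ha, ha, map_neg]

theorem Sc_sq (hρ : Function.Injective ρ) {a : G} (ha : a ∈ Sc ρ) : a * a = 1 := by
  apply hρ
  rw [map_one]
  apply LinearMap.ext
  intro v
  rw [mul_ap]
  rcases ha with ha | ha
  · rw [ha, ha]; rfl
  · rw [ha, ha, neg_neg]; rfl

/-- **abelian normal 2-subgroups act as `±1`** -/
theorem Hyp.abel_two [Finite G] (h : Hyp ρ R R') {A : Subgroup G} [hA : A.Normal]
    (hab : ∀ a ∈ A, ∀ b ∈ A, a * b = b * a) (h2 : IsPGroup 2 A) : A ≤ Sc ρ := by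
  classical
  have := h.finDim
  -- the elements of order at most two
  let Om : Subgroup G :=
    { carrier := {d | d ∈ A ∧ d ^ 2 = 1}
      one_mem' := ⟨A.one_mem, one_pow _⟩
      mul_mem' := by
        rintro a b ⟨ha, ha1⟩ ⟨hb, hb1⟩
        refine ⟨A.mul_mem ha hb, ?_⟩
        rw [(show Commute a b from hab a ha b hb).mul_pow, ha1, hb1, one_mul]
      inv_mem' := by
        rintro a ⟨ha, ha1⟩
        exact ⟨A.inv_mem ha, by rw [inv_pow, ha1, inv_one]⟩ }
  have hOm : Om.Normal := by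
    refine ⟨?_⟩
    rintro a ⟨ha, ha'⟩ g
    exact ⟨hA.conj_mem a ha g, by rw [conj_pow, ha', mul_one, mul_inv_cancel]⟩
  have hOmS : Om ≤ Sc ρ := fun a ha =>
    h.elem Nat.prime_two (A := Om) (fun x hx y hy => hab x hx.1 y hy.1) (fun x hx => hx.2) ha
  have key : ∀ k : ℕ, ∀ a ∈ A, a ^ 2 ^ k = 1 → a ∈ Sc ρ := by
    intro k
    induction k with
    | zero =>
      intro a _ ha1
      rw [pow_zero, pow_one] at ha1
      rw [ha1]
      exact Subgroup.one_mem _
    | succ k ih =>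
      intro a ha ha1
      have h3 : a * a ∈ Sc ρ := by
        apply ih _ (A.mul_mem ha ha)
        rw [← pow_two, ← pow_mul, ← pow_succ', ha1]
      rcases h3 with h3 | h3
      · apply hOmS
        refine ⟨ha, ?_⟩
        rw [pow_two]
        apply h.inj
        rw [map_one]
        exact LinearMap.ext h3
      · -- `a² = -1`
        refine h.of_central fun x hx => ?_
        set a' := x * a * x⁻¹ with ha'
        have ha'A : a' ∈ A := hA.conj_mem a ha x
        have h4 : a' * a' = a * a := by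
          have h5 : a' * a' = x * (a * a) * x⁻¹ := by rw [ha']; group
          rw [h5]
          apply h.inj
          apply LinearMap.ext
          intro v
          rw [mul_ap, mul_ap, h3, map_neg, ap_inv, h3]
        have h5 : a⁻¹ * a' ∈ Om := by
          refine ⟨A.mul_mem (A.inv_mem ha) ha'A, ?_⟩
          rw [(show Commute a⁻¹ a' from hab _ (A.inv_mem ha) _ ha'A).mul_pow, pow_two a', h4, inv_pow,
            pow_two, inv_mul_cancel]
        have hx' : x * a = a' * x := by rw [ha']; group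
        rcases hOmS h5 with h6 | h6
        · have h7 : a⁻¹ * a' = 1 := by
            apply h.inj
            rw [map_one]
            exact LinearMap.ext h6
          rw [inv_mul_eq_one] at h7
          rw [hx', ← h7]
        · exfalso
          have h7 : ∀ v, ρ a' v = -(ρ a v) := by
            intro v
            have h8 : a' = a * (a⁻¹ * a') := by group
            rw [h8, mul_ap, h6, map_neg]
          have h8 := anti h.two ρ (x := x) (ρ a) (Blk.rho_inj ρ a) (by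
            intro v
            rw [← mul_ap ρ x a, hx', mul_ap, h7, neg_neg])
          have := h.five
          have := hx.2
          omega
  intro a ha
  obtain ⟨k, hk⟩ := h2 ⟨a, ha⟩
  exact key k a ha (congrArg Subtype.val hk)

/-- a normal extraspecial subgroup -/
theorem Hyp.exists_N [Finite G] (h : Hyp ρ R R') {P : Subgroup G} (hPn : P.Normal)
    (hP : IsPGroup 2 P) (hPZ : ¬ P ≤ Sc ρ) :
    ∃ N : Subgroup G, N.Normal ∧ IsPGroup 2 N ∧ ¬ N ≤ Sc ρ ∧
      (∀ a ∈ N, ∀ b ∈ N, a * b * a⁻¹ * b⁻¹ ∈ Sc ρ) ∧ (∀ a ∈ N, a * a ∈ Sc ρ) ∧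
      ∀ a ∈ N, (∀ b ∈ N, a * b = b * a) → a ∈ Sc ρ := by
  obtain ⟨N, h1, h2, h3, h4, h5⟩ := exists_minN (Sc ρ) hPn hP hPZ
  refine ⟨N, h1, h2, h3, h4, h5, ?_⟩
  intro a ha hac
  let C : Subgroup G :=
    { carrier := {a | a ∈ N ∧ ∀ b ∈ N, a * b = b * a}
      one_mem' := ⟨N.one_mem, fun b _ => by simp⟩
      mul_mem' := by
        rintro a c ⟨ha, ha'⟩ ⟨hc, hc'⟩
        refine ⟨N.mul_mem ha hc, fun b hb => ?_⟩
        rw [mul_assoc, hc' b hb, ← mul_assoc, ha' b hb, mul_assoc]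
      inv_mem' := by
        rintro a ⟨ha, ha'⟩
        refine ⟨N.inv_mem ha, fun b hb => ?_⟩
        rw [inv_mul_eq_iff_eq_mul, ← mul_assoc, ha' b hb, mul_inv_cancel_right] }
  have hCn : C.Normal := by
    refine ⟨?_⟩
    rintro a ⟨ha, ha'⟩ g
    refine ⟨h1.conj_mem a ha g, fun b hb => ?_⟩
    have h6 := ha' _ ((mem_norm_iff g b).mp hb)
    calc g * a * g⁻¹ * b = g * (a * (g⁻¹ * b * g)) * g⁻¹ := by group
      _ = g * ((g⁻¹ * b * g) * a) * g⁻¹ := by rw [h6]
      _ = b * (g * a * g⁻¹) := by group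
  exact h.abel_two (A := C) (fun x hx y hy => hx.2 y hy.1) (h2.to_le fun x hx => hx.1) ⟨ha, hac⟩

end Cfsg.Agent.H170.Fl
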